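import Cfsg.Agent.Lib.PresCert.Check

/-!
Coset table certificate (generated data).
-/

namespace CfsgLib.ANineThree.NoSeven.Dts

open CfsgLib.PresCert

noncomputable def tab : BTree := (.leaf 0x368c00de0000000000a800030000000000880002800000000068000200000000004800018000000000280001000000000008000080000)

noncomputable def par : BTree := (.node (.node (.leaf 0x1d000000000000001a000000000030001c0000000000200015000000000050001a00000000002000140000000000100018000000000050001600000000005000140000000000100015000000000030000c0000000000300008000000000020001200000000003000070000000000300006000000000050000c0000000000500009000000000060000600000000004000090000000000100009000000000050000800000000004000080000000000000008000000000060000200000000004000040000000000400003000000000040000200000000000000030000000000200002000000000030000100000000006000000000000000000000) (.leaf 0x20005e000000000040005d000000000000005b000000000030005b0000000000200058000000000030003100000000001000580000000000300030000000000020005200000000002000550000000000000053000000000040005300000000006000500000000000300036000000000010004d000000000030002b000000000010004e000000000060004d0000000000300042000000000050003e00000000005000400000000000400045000000000050003900000000005000370000000000500034000000000010004500000000006000210000000000100043000000000000003d00000000001000410000000000000036000000000010003f))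 (.node (.leaf 0x60001d0000000000100039000000000040003a000000000060001900000000006000290000000000500032000000000000003200000000006000160000000000100034000000000060001700000000005000330000000000000033000000000020003200000000006000150000000000600013000000000020002f0000000000600012000000000010002a000000000000002700000000004000240000000000400021000000000040002200000000004000180000000000400019000000000040001b000000000040001700000000001000210000000000000021000000000000001b0000000000300021000000000050001c000000000010001d) (.leaf 0x75000000000010007200000000000000720000000000200072000000000030003d000000000020006a00000000002000640000000000200067000000000020006100000000002000660000000000200062000000000020005a0000000000100069000000000030004a0000000000100067000000000050006100000000005000620000000000500063000000000000006300000000001000620000000000300038000000000010005e000000000010005b)))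

noncomputable def fact : BTree := (.node (.node (.node (.node (.leaf 0x26000036000090002500009000008000240000810000800023000082000080002200008600002000210000600000700020000072000070001f000061000070001e000074000040001d000052000060001c000064000030001b000053000050001a0000510000500019000054000020001800004500004000170000430000400016000042000040001500003100004000140000400000300013000035000030001200003300003000110000320000200010000025000020000f000020000020000e000021000020000d000023000010000c000015000010000b000014000010000a00001100001000090000120000100008000010000010000700001600000) (.leaf 0x1260006110005e001250005f400060001240005d200060001230006010005b001220003f30005f001210005f20005e001200003e30005e0011f0005e40005d0011e0005c10005d0011d0005d00005b0011c0005920005c0011b0005c30005b0011a0005b200058001190005800005a001180005a10005a001170005a3000310011600059000059001150002f300059001140005910005800113000583000300011200056000057001110005720005200110000565000550010f000564000550010e000531000560010d000562000550010c000541000550010b000550000530010a0005450005300109000512000540010800054400053001070005320004d))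 (.node (.leaf 0xa600036100036000a500036600017000a400026600035000a300035300035000a200035500033000a10001a600034000a0000340000330009f000333000330009e000331000330009d000146000330009c000334000330009b000332000320009a00032400032000990003260001500098000311000310009700031200031000960002f00003100095000316000130009400030000030000930002f1000300009200011600030000910003020002f000900002f6000120008f0002d50002e0008e0002340002e0008d0002e10002a0008c0002d4000250008b0002b10002d0008a0002d000027000890002c50002c000880002c20002c000870002710002c) (.leaf 0x1a60006e700038001a500070700061001a400033700002001a300014700008001a20007070006c001a10007170006d001a0000387000040019f0001670000c0019e0006e70005e0019d000383000610019c000627000610019b0006e70006c0019a0006f70006d001990003270000300198000157000090019700070700061001960003230005e001950006370005e0019400014700008001930001770000b001920007170006d001910006a700066001900001670000c0018f000187000100018e000617000620018d0006f70006d0018c000677000660018b000157000090018a0001970000f0018900021700018001880005e7000630018700068700065)))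 (.node (.node (.leaf 0x660001f30001f000650001f20001f000640001a10001f000630001f00001d000620001c10001e000610001e00001a000600001d40001c0005f0001620001d0005e0001d30001c0005d0001c2000150005c0001b30001b0005b0001720001b0005a0001b50001a000590001a40001a000580001a30001a000570001a2000140005600015500019000550001030001900054000191000180005300017000018000520000f3000180005100018500016000500000b3000170004f000171000170004e000175000140004d000154000160004c000093000160004b000161000150004a00014000015000490001530000c00048000144000140004700014100014) (.leaf 0x1660007570007400165000767000720016400076700072001630007630004400162000741000760016100076000075001600003c3000750015f000751000720015e000433000740015d000740000720015c000573000730015b000732000720015a0007230003d0015900070500071001580007120006a0015700063600070001560006e3000700015500070200064001540006e50006f001530006f200067001520006260006e001510005940006e001500006e2000610014f0006c50006d0014e0006d2000660014d0006c2000620014c0006160005e0014b000646000640014a0005d60005d001490005b600060001480006b600058001470006b400062))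 (.node (.leaf 0xe60004a400045000e500043400049000e400049500039000e300027600048000e200042400048000e100047300048000e000048500037000df00041400047000de0002c600047000dd00047500034000dc00025600046000db00043500046000da00044000046000d900046100045000d800044500045000d700045200042000d60003c000045000d500045600021000d400023600044000d300041200044000d200044100043000d100022600043000d00004300003d000cf00024600042000ce00041500042000cd00042000042000cc00042100041000cb0001b600041000ca00041000036000c900020600040000c800039400040000c700039200040) (.leaf 0x0)))) (.node (.node (.node (.leaf 0x46000143000080004500013000013000440001310001300043000132000120004200011000012000410001110001200040000123000070003f000112000110003e000113000060003d0000f2000100003c0000f1000100003b0001050000c0003a0000f500009000390000e30000d000380000d10000e000370000e20000d000360000a00000e000350000e600006000340000760000d000330000d400009000320000460000c000310000920000c000300000c1000090002f0000b40000b0002e0000b20000b0002d0000b5000080002c0000a30000a0002b0000a50000a0002a0000560000a000290000a20000a000280000a10000a000270000a400008)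 (.leaf 0x1460006b30006b001450006000006b001440006b20005a001430006450006a001420004b30006a001410006a100069001400005f5000690013f0006930004a0013e0005e5000680013d0004c3000680013c000681000670013b000650000670013a000493000670013900067500061001380003b30006600137000651000660013600066500062001350003a30006500134000652000650013300065500063001320006440005b0013100064300040001300005f1000640012f000640000630012e000632000630012d000323000630012c000631000620012b0005e0000620012a00062300038001290006100005f001280005c4000610012700039300061)) (.node (.leaf 0xc60003e000040000c50004010003f000c40003e40003f000c30003f200037000c20003800003f000c10003f60001d000c00001e60003e000bf0003420003e000be0003e100039000bd0001860003d000bc0003d50003d000bb0003620003d000ba0003c10003d000b90003d40003a000b80003b40003c000b70003c600019000b60003850003b000b50003a10003b000b40003b600029000b30002860003a000b20003520003a000b10003a500032000b00001c600039000af00039000032000ae00032100038000ad00038600016000ac0001f600037000ab00034400037000aa00034300037000a900037100034000a800036500036000a700035400036)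 (.leaf 0x1bb00000600000001ba00001700000001b900009700001001b800009700000001b700003700001001b60000c700003001b500002700001001b40000c700009001b300003700002001b200004700003001b10000470000c001b00005e700004001af00002700001001ae00033700002001ad0005e60005e001ac0006170005e001ab00038700004001aa0006c70005e001a90006e70006c001a80005e700003001a700032700003))) (.node (.node (.leaf 0x860002c400024000850002a50002b000840002820002b000830002b400021000820002a400022000810002810002900080000294000180007f000260000280007e000284000190007d000262000270007c0002740001b0007b000265000260007a00026100026000790002640001700078000233000250007700025100021000760002450001f00075000243000240007400024200024000730001b1000240007200024000021000710002350002000070000221000230006f0002300001b0006e0001d5000220006d000182000220006c000223000210006b000192000210006a0002150001c000690001e400020000680002010001d000670001f40001f) (.leaf 0x1860001770000b001850001b7000170018400025700019001830006a700066001820004b70003b001810002170001000180000227000190017f000677000660017e0004970003b0017d0002570000f0017c000237000180017b000217000180017a0004570003d0017900068700065001780004c70003a001770001b70001700176000417000360017500025700019001740004b70003b001730004670003c0017200022700019001710004970003b001700004370003c0016f000237000180016e0004570003d0016d0004c70003a0016c000417000360016b000467000430016a0004470003d001690003c7000430016800075700074001670004470003d))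 (.node (.leaf 0x106000536000500010500052400052001040004d00005200103000521000520010200052300036001010005150004d001000004d400051000ff0004f600051000fe00051000051000fd00041300051000fc0005110004d000fb0004e000050000fa0005030002b000f90004f50004f000f80004f40004f000f70002730004f000f60004f10004e000f50004e50004e000f40004e40004e000f30002c30004e000f20004e60004d000f10004d300042000f00004440004c000ef0004720004c000ee0004910004c000ed0004c50003e000ec0003a00004b000eb0004640004b000ea0004a10004b000e90004b500040000e80003f50004a000e70004820004a) (.leaf 0x0)))))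

/-- the certificate -/
noncomputable def cert : Cert where
  n := 1
  v := 118
  g := 7
  inv := [0, 1, 2, 3, 4, 5, 6]
  rels := [[0, 1, 0, 1, 0, 1], [1, 0, 1, 1, 0, 1], [1, 2, 1, 2, 1, 2], [1, 3, 1, 3], [1, 4, 1, 4], [1, 5, 1, 5], [2, 0, 1, 2, 0, 1], [2, 3, 2, 3, 2, 3], [2, 4, 2, 4], [2, 5, 2, 5], [3, 0, 1, 3, 0, 1], [3, 4, 3, 4, 3, 4], [3, 5, 3, 5], [4, 0, 1, 4, 0, 1], [4, 5, 4, 5, 4, 5], [5, 0, 1, 5, 0, 1], [6, 0, 6, 2], [6, 1, 6, 1], [6, 4, 6, 4, 1], [6, 5, 6, 4, 5, 4, 1], [6, 0, 1, 6, 1, 2], [6, 3, 2, 1, 4, 3, 2, 5, 4, 3, 6, 3, 2, 1, 4, 3, 2, 5, 4, 3, 6, 3, 2, 1, 4, 3, 2, 5, 4, 3], [1, 2, 3, 6, 1, 3, 6, 3, 2, 1, 2, 4, 1, 2, 3, 6, 1, 3, 6, 3, 2, 1, 2, 4], [1, 2, 3, 6, 1, 3, 4, 3, 6, 3, 2, 1, 0, 2, 4, 3, 2, 0, 4, 5, 0, 3, 2, 0, 3, 1, 2, 3, 6, 1, 3, 4, 3, 6, 3, 2, 1, 0, 2, 4, 3, 2, 0, 4, 5, 0, 3, 2, 0, 3, 1, 2, 3, 6, 1, 3, 4, 3, 6, 3, 2, 1, 0, 2, 4, 3, 2, 0, 4, 5, 0, 3, 2, 0, 3, 4, 3, 2, 5, 4, 3, 6, 3, 4, 5, 3, 4, 3, 6, 3, 4, 5, 2, 3, 4]]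
  subs := [[0], [1], [2], [3], [4], [5]]
  tab := tab
  par := par
  fact := fact
  nfact := 437

/-- justifications -/
noncomputable def just0 : List Cert.Just :=
  [.define,
   .loop (some (16, 1)) [.bwd 0, .edge 2, .fwd 0],
   .loop (some (16, 3)) [.bwd 0, .edge 0, .fwd 0],
   .loop (some (17, 1)) [.bwd 0, .edge 1, .fwd 0],
   .loop (some (18, 1)) [.bwd 0, .edge 4, .edge 1, .fwd 0],
   .loop (some (19, 1)) [.bwd 0, .edge 4, .edge 5, .edge 4, .edge 1, .fwd 0],
   .define,
   .loop (some (3, 2)) [.bwd 6, .fwd 3, .fwd 6],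
   .loop (some (10, 1)) [.fwd 7, .bwd 6, .fwd 1, .fwd 3, .fwd 6],
   .loop (some (12, 1)) [.bwd 6, .fwd 5, .fwd 6],
   .define,
   .loop (some (7, 1)) [.bwd 10, .bwd 6, .fwd 2, .fwd 6, .fwd 10],
   .loop (some (9, 1)) [.bwd 10, .fwd 9, .fwd 10],
   .define,
   .loop (some (6, 2)) [.bwd 10, .fwd 8, .fwd 7, .fwd 10, .fwd 13],
   .loop (some (2, 5)) [.fwd 14, .bwd 10, .fwd 7, .fwd 10, .bwd 14],
   .loop (some (3, 3)) [.fwd 14, .fwd 11, .bwd 14],
   .loop (some (5, 3)) [.fwd 14, .fwd 12, .bwd 14],
   .define,
   .loop (some (4, 2)) [.bwd 18, .fwd 7, .fwd 18],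
   .loop (some (11, 2)) [.bwd 18, .bwd 6, .fwd 4, .fwd 6, .fwd 18],
   .define,
   .loop (some (8, 2)) [.bwd 18, .fwd 10, .fwd 21],
   .define,
   .loop (some (4, 2)) [.bwd 21, .bwd 14, .fwd 23],
   .loop (some (8, 2)) [.bwd 23, .fwd 15, .fwd 23],
   .loop (some (13, 1)) [.bwd 24, .bwd 23, .bwd 13, .bwd 14, .fwd 23],
   .define,
   .loop (some (16, 3)) [.bwd 27, .fwd 8, .fwd 27],
   .loop (some (17, 1)) [.bwd 27, .fwd 7, .fwd 27],
   .define,
   .loop (some (16, 2)) [.bwd 10, .fwd 27, .fwd 30],
   .define,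
   .loop (some (4, 2)) [.bwd 32, .fwd 29, .fwd 32],
   .loop (some (8, 2)) [.bwd 32, .fwd 28, .fwd 32],
   .loop (some (18, 2)) [.bwd 18, .fwd 7, .fwd 27, .fwd 32],
   .loop (some (19, 4)) [.bwd 32, .fwd 29, .bwd 27, .fwd 9, .fwd 27, .fwd 32],
   .loop (some (22, 5)) [.fwd 35, .fwd 20, .bwd 22, .bwd 24, .fwd 25, .bwd 23, .fwd 14, .bwd 10, .bwd 6, .bwd 0, .edge 1, .edge 3, .fwd 0, .fwd 6, .fwd 10, .bwd 14, .fwd 15, .fwd 23, .fwd 24, .fwd 22, .fwd 20, .bwd 35, .fwd 33],
   .define,
   .loop (some (9, 2)) [.bwd 38, .fwd 28, .fwd 38],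
   .loop (some (14, 2)) [.bwd 38, .fwd 32, .fwd 36, .bwd 32, .fwd 38],
   .define,
   .loop (some (6, 3)) [.bwd 30, .fwd 29, .fwd 28, .fwd 30, .fwd 41],
   .loop (some (17, 2)) [.fwd 14, .bwd 31, .fwd 41],
   .define,
   .loop (some (18, 2)) [.bwd 23, .fwd 14, .bwd 31, .fwd 44],
   .define,
   .loop (some (16, 1)) [.fwd 35, .bwd 22, .fwd 46],
   .loop (some (16, 3)) [.bwd 46, .bwd 26, .bwd 45],
   .loop (some (17, 1)) [.fwd 45, .fwd 24, .fwd 46],
   .loop (some (10, 0)) [.fwd 47, .fwd 33, .fwd 37, .bwd 47, .fwd 49],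
   .define,
   .define,
   .loop (some (5, 2)) [.bwd 51, .fwd 41, .fwd 52],
   .loop (some (9, 2)) [.bwd 51, .bwd 42, .fwd 52],
   .define,
   .loop (some (7, 2)) [.bwd 55, .fwd 22, .fwd 20, .bwd 22, .fwd 55],
   .define,
   .loop (some (3, 2)) [.bwd 55, .bwd 24, .fwd 57],
   .loop (some (10, 1)) [.bwd 58, .bwd 57, .fwd 26, .bwd 24, .fwd 57],
   .define,
   .loop (some (2, 2)) [.bwd 60, .fwd 58, .fwd 56, .bwd 58, .fwd 60],
   .loop (some (6, 1)) [.fwd 61, .bwd 60, .fwd 59, .bwd 58, .fwd 60],
   .define,
   .loop (some (3, 2)) [.bwd 63, .fwd 29, .fwd 63],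
   .loop (some (11, 1)) [.bwd 63, .fwd 32, .fwd 37, .bwd 32, .fwd 63],
   .define,
   .loop (some (10, 1)) [.fwd 64, .bwd 63, .fwd 30, .fwd 41, .fwd 66],
   .define,
   .loop (some (3, 1)) [.fwd 41, .fwd 66, .fwd 68],
   .loop (some (13, 3)) [.fwd 67, .fwd 64, .fwd 65, .bwd 67, .fwd 68],
   .define,
   .loop (some (5, 2)) [.bwd 71, .fwd 64, .fwd 71],
   .loop (some (12, 2)) [.bwd 38, .fwd 63, .fwd 71],
   .define,
   .loop (some (12, 2)) [.bwd 51, .bwd 69, .fwd 74],
   .loop (some (15, 1)) [.fwd 72, .bwd 71, .bwd 67, .fwd 68, .fwd 74],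
   .define,
   .loop (some (3, 1)) [.fwd 53, .bwd 75, .fwd 77],
   .loop (some (5, 1)) [.fwd 68, .fwd 74, .fwd 77],
   .define,
   .loop (some (7, 1)) [.bwd 80, .bwd 63, .fwd 28, .fwd 63, .fwd 80],
   .loop (some (8, 1)) [.bwd 80, .fwd 65, .fwd 80],
   .define,
   .loop (some (9, 2)) [.bwd 71, .fwd 80, .fwd 83],
   .loop (some (12, 2)) [.bwd 83, .fwd 81, .fwd 83],
   .define,
   .define,
   .loop (some (7, 2)) [.fwd 69, .bwd 42, .fwd 66, .fwd 86, .fwd 87],
   .loop (some (8, 3)) [.fwd 88, .fwd 70, .fwd 86],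
   .define,
   .loop (some (6, 2)) [.bwd 86, .fwd 67, .fwd 64, .fwd 80, .fwd 90],
   .define,
   .loop (some (6, 2)) [.bwd 80, .bwd 67, .fwd 68, .bwd 88, .fwd 92],
   .loop (some (2, 5)) [.fwd 93, .bwd 80, .fwd 64, .fwd 80, .bwd 93],
   .loop (some (3, 3)) [.fwd 93, .fwd 81, .bwd 93],
   .loop (some (4, 3)) [.fwd 93, .fwd 82, .bwd 93],
   .define,
   .loop (some (4, 1)) [.fwd 91, .fwd 89, .fwd 97],
   .define,
   .loop (some (9, 2)) [.fwd 79, .fwd 86, .fwd 99],
   .define,
   .loop (some (7, 2)) [.fwd 75, .bwd 54, .bwd 78, .bwd 100, .fwd 101],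
   .loop (some (12, 1)) [.bwd 87, .fwd 99, .fwd 101],
   .define,
   .loop (some (6, 2)) [.fwd 102, .fwd 76, .fwd 72, .bwd 84, .fwd 104],
   .loop (some (5, 3)) [.fwd 105, .fwd 103, .fwd 97],
   .define,
   .loop (some (6, 2)) [.fwd 84, .bwd 76, .fwd 77, .bwd 100, .fwd 107],
   .loop (some (2, 5)) [.fwd 108, .fwd 84, .fwd 72, .bwd 84, .bwd 108],
   .loop (some (3, 3)) [.fwd 108, .fwd 85, .bwd 108],
   .loop (some (5, 3)) [.fwd 108, .bwd 83, .bwd 93],
   .define,
   .loop (some (3, 1)) [.fwd 105, .bwd 101, .fwd 112],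
   .define,
   .loop (some (4, 2)) [.bwd 114, .fwd 72, .fwd 114],
   .loop (some (14, 1)) [.bwd 114, .bwd 71, .fwd 65, .fwd 71, .fwd 114],
   .define,
   .loop (some (8, 2)) [.bwd 114, .bwd 84, .fwd 117],
   .define,
   .loop (some (13, 1)) [.fwd 115, .bwd 114, .bwd 76, .fwd 77, .fwd 119],
   .define,
   .loop (some (4, 2)) [.bwd 119, .bwd 77, .fwd 121],
   .define,
   .define,
   .loop (some (8, 2)) [.bwd 119, .bwd 100, .fwd 124],
   .loop (some (14, 1)) [.bwd 123, .fwd 103, .bwd 89, .fwd 99, .fwd 124],
   .define,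
   .loop (some (4, 2)) [.bwd 117, .bwd 108, .fwd 127],
   .loop (some (8, 2)) [.bwd 127, .fwd 109, .fwd 127],
   .loop (some (14, 1)) [.bwd 127, .bwd 111, .fwd 96, .fwd 111, .fwd 127],
   .define,
   .loop (some (6, 2)) [.fwd 125, .fwd 120, .fwd 115, .bwd 118, .fwd 131],
   .loop (some (13, 0)) [.bwd 131, .bwd 128, .bwd 127, .bwd 107, .fwd 112],
   .define,
   .loop (some (4, 1)) [.fwd 105, .fwd 123, .fwd 134],
   .loop (some (5, 1)) [.fwd 132, .fwd 126, .fwd 134],
   .define,
   .define,
   .loop (some (16, 0)) [.bwd 59, .fwd 137, .fwd 138],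
   .loop (some (20, 4)) [.fwd 138, .fwd 139, .bwd 59, .fwd 58, .bwd 139],
   .loop (some (16, 1)) [.fwd 139, .fwd 56, .bwd 139],
   .define,
   .loop (some (16, 1)) [.bwd 137, .fwd 60, .fwd 142],
   .loop (some (16, 3)) [.bwd 142, .fwd 62, .fwd 142],
   .loop (some (17, 1)) [.bwd 142, .fwd 61, .fwd 142],
   .define,
   .loop (some (18, 1)) [.bwd 146, .bwd 70, .bwd 68, .fwd 146],
   .define,
   .loop (some (8, 1)) [.bwd 148, .fwd 147, .fwd 148]]

/-- justifications -/
noncomputable def just1 : List Cert.Just :=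
  [.loop (some (16, 0)) [.bwd 67, .fwd 146, .fwd 148],
   .loop (some (20, 4)) [.bwd 148, .bwd 146, .fwd 67, .fwd 64, .bwd 150],
   .loop (some (22, 5)) [.fwd 150, .bwd 63, .fwd 28, .fwd 29, .fwd 28, .fwd 32, .fwd 33, .fwd 34, .fwd 37, .fwd 35, .fwd 19, .fwd 20, .bwd 35, .fwd 37, .fwd 34, .fwd 33, .fwd 34, .bwd 32, .fwd 29, .fwd 28, .fwd 63, .bwd 150, .fwd 151],
   .define,
   .loop (some (16, 2)) [.bwd 80, .bwd 150, .fwd 153],
   .define,
   .loop (some (12, 2)) [.bwd 155, .fwd 152, .fwd 155],
   .loop (some (19, 2)) [.bwd 114, .bwd 71, .fwd 65, .fwd 64, .bwd 150, .fwd 155],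
   .define,
   .loop (some (17, 1)) [.bwd 158, .fwd 72, .fwd 158],
   .loop (some (18, 1)) [.fwd 157, .bwd 114, .fwd 72, .fwd 158],
   .loop (some (19, 1)) [.bwd 158, .fwd 114, .fwd 116, .bwd 114, .fwd 72, .fwd 158],
   .define,
   .loop (some (10, 3)) [.bwd 153, .fwd 151, .fwd 152, .fwd 153, .fwd 162],
   .loop (some (13, 3)) [.bwd 153, .fwd 151, .fwd 149, .fwd 153, .fwd 162],
   .loop (some (17, 2)) [.fwd 93, .bwd 154, .fwd 162],
   .define,
   .loop (some (17, 1)) [.bwd 146, .fwd 68, .fwd 166],
   .define,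
   .loop (some (16, 2)) [.bwd 86, .fwd 146, .fwd 168],
   .define,
   .loop (some (9, 2)) [.bwd 155, .bwd 148, .fwd 170],
   .loop (some (19, 2)) [.bwd 119, .fwd 79, .bwd 70, .bwd 68, .fwd 146, .fwd 170],
   .define,
   .loop (some (17, 1)) [.fwd 172, .bwd 122, .fwd 173],
   .loop (some (19, 1)) [.bwd 166, .fwd 70, .bwd 79, .fwd 119, .bwd 122, .fwd 173],
   .define,
   .loop (some (18, 1)) [.bwd 173, .bwd 121, .fwd 77, .fwd 176],
   .define,
   .loop (some (4, 2)) [.fwd 177, .fwd 174, .fwd 178],
   .loop (some (8, 2)) [.fwd 160, .bwd 171, .fwd 178],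
   .loop (some (14, 1)) [.bwd 178, .bwd 170, .fwd 147, .fwd 170, .fwd 178],
   .loop (some (18, 2)) [.fwd 121, .fwd 122, .bwd 172, .fwd 178],
   .define,
   .loop (some (6, 3)) [.bwd 153, .fwd 151, .bwd 148, .fwd 168, .fwd 183],
   .loop (some (17, 2)) [.fwd 91, .bwd 169, .fwd 183],
   .define,
   .loop (some (16, 1)) [.bwd 166, .bwd 88, .fwd 186],
   .loop (some (16, 3)) [.bwd 186, .fwd 92, .bwd 165],
   .loop (some (18, 1)) [.fwd 185, .bwd 98, .bwd 97, .fwd 186],
   .define,
   .loop (some (0, 2)) [.bwd 183, .bwd 168, .bwd 167, .bwd 187, .fwd 190],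
   .loop (some (2, 1)) [.fwd 183, .fwd 184, .fwd 162, .fwd 188, .fwd 190],
   .loop (some (4, 1)) [.fwd 183, .bwd 189, .fwd 190],
   .loop (some (17, 2)) [.bwd 97, .fwd 186, .fwd 190],
   .define,
   .loop (some (16, 2)) [.fwd 84, .fwd 158, .fwd 195],
   .define,
   .loop (some (0, 2)) [.bwd 197, .bwd 195, .fwd 159, .fwd 195, .fwd 197],
   .loop (some (15, 3)) [.bwd 195, .fwd 159, .fwd 161, .fwd 195, .fwd 197],
   .loop (some (17, 2)) [.fwd 108, .bwd 196, .fwd 197],
   .define,
   .loop (some (16, 2)) [.fwd 102, .bwd 182, .fwd 201],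
   .define,
   .loop (some (6, 3)) [.bwd 195, .fwd 159, .bwd 180, .fwd 201, .fwd 203],
   .loop (some (17, 2)) [.fwd 105, .bwd 202, .fwd 203],
   .define,
   .loop (some (16, 1)) [.bwd 176, .bwd 100, .fwd 206],
   .loop (some (16, 3)) [.bwd 206, .fwd 107, .bwd 200],
   .loop (some (19, 1)) [.fwd 205, .bwd 135, .fwd 136, .bwd 133, .bwd 112, .fwd 206],
   .define,
   .loop (some (0, 2)) [.bwd 203, .bwd 201, .fwd 179, .bwd 207, .fwd 210],
   .loop (some (5, 1)) [.fwd 203, .bwd 209, .fwd 210],
   .loop (some (17, 2)) [.bwd 112, .fwd 206, .fwd 210],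
   .define,
   .loop (some (19, 2)) [.bwd 127, .bwd 111, .fwd 96, .fwd 93, .bwd 154, .fwd 214],
   .loop (some (19, 5)) [.fwd 197, .fwd 200, .bwd 111, .bwd 165, .fwd 164, .fwd 214],
   .define,
   .loop (some (12, 2)) [.bwd 214, .bwd 163, .fwd 217],
   .loop (some (14, 2)) [.fwd 199, .bwd 216, .bwd 214, .bwd 164, .fwd 217],
   .loop (some (19, 2)) [.bwd 117, .bwd 83, .fwd 82, .bwd 93, .bwd 165, .fwd 217],
   .define,
   .loop (some (19, 5)) [.fwd 203, .fwd 205, .bwd 106, .bwd 194, .fwd 193, .fwd 221],
   .define,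
   .loop (some (8, 2)) [.fwd 219, .fwd 208, .fwd 223],
   .loop (some (19, 4)) [.fwd 189, .bwd 183, .fwd 169, .fwd 99, .fwd 206, .fwd 223],
   .define,
   .loop (some (5, 2)) [.fwd 225, .fwd 190, .fwd 226],
   .loop (some (14, 2)) [.fwd 212, .bwd 222, .bwd 221, .bwd 193, .fwd 226],
   .loop (some (15, 1)) [.bwd 174, .fwd 175, .bwd 187, .fwd 190, .fwd 226],
   .define,
   .loop (some (5, 2)) [.bwd 221, .fwd 183, .fwd 230],
   .loop (some (9, 2)) [.bwd 214, .bwd 184, .fwd 230],
   .loop (some (14, 2)) [.bwd 209, .fwd 223, .fwd 225, .fwd 189, .fwd 230],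
   .define,
   .define,
   .loop (some (23, 89)) [.bwd 127, .bwd 111, .fwd 94, .fwd 95, .fwd 96, .fwd 93, .bwd 80, .bwd 63, .bwd 27, .fwd 7, .bwd 6, .fwd 4, .fwd 6, .fwd 27, .fwd 63, .fwd 80, .bwd 93, .bwd 92, .fwd 88, .fwd 70, .bwd 66, .fwd 42, .bwd 30, .fwd 32, .fwd 36, .bwd 47, .bwd 50, .fwd 48, .fwd 47, .fwd 37, .fwd 33, .fwd 34, .fwd 37, .fwd 35, .fwd 19, .fwd 20, .bwd 18, .bwd 6, .bwd 0, .edge 3, .edge 2, .edge 1, .edge 0, .edge 2, .edge 4, .edge 3, .edge 2, .edge 0, .edge 4, .edge 5, .edge 0, .edge 3, .edge 2, .edge 0, .edge 3, .edge 1, .edge 2, .edge 3, .fwd 0, .fwd 3, .fwd 6, .fwd 18, .fwd 20, .bwd 35, .fwd 37, .fwd 34, .fwd 33, .bwd 47, .bwd 48, .bwd 44, .bwd 69, .bwd 88, .fwd 92, .fwd 96, .fwd 111, .bwd 107, .fwd 101, .fwd 102, .fwd 76, .fwd 73, .fwd 40, .bwd 73, .bwd 84, .bwd 83, .fwd 82, .fwd 81, .bwd 154, .bwd 163, .fwd 164, .fwd 214, .bwd 218, .fwd 219, .fwd 234, .fwd 235],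
   .loop (some (11, 5)) [.fwd 236, .bwd 127, .fwd 110, .fwd 127, .bwd 236],
   .loop (some (12, 3)) [.fwd 236, .fwd 130, .bwd 236],
   .define,
   .loop (some (3, 1)) [.bwd 128, .bwd 236, .fwd 239],
   .loop (some (4, 1)) [.bwd 239, .fwd 237, .fwd 239],
   .loop (some (5, 1)) [.bwd 239, .fwd 238, .fwd 239],
   .define,
   .loop (some (10, 1)) [.fwd 239, .fwd 240, .fwd 131, .fwd 132, .fwd 243],
   .define,
   .loop (some (3, 1)) [.fwd 197, .fwd 234, .fwd 245],
   .loop (some (10, 1)) [.bwd 245, .bwd 234, .fwd 198, .bwd 197, .bwd 246],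
   .loop (some (17, 2)) [.bwd 239, .bwd 235, .fwd 245],
   .loop (some (18, 3)) [.fwd 245, .fwd 248, .fwd 241, .bwd 248],
   .loop (some (19, 4)) [.fwd 249, .fwd 245, .fwd 248, .fwd 242, .bwd 248, .fwd 249],
   .define,
   .loop (some (3, 2)) [.bwd 251, .fwd 159, .fwd 251],
   .loop (some (10, 1)) [.fwd 245, .fwd 246, .bwd 195, .fwd 159, .fwd 251],
   .loop (some (11, 1)) [.bwd 251, .fwd 160, .fwd 156, .bwd 160, .fwd 251],
   .define,
   .loop (some (16, 3)) [.bwd 255, .fwd 244, .bwd 235],
   .define,
   .loop (some (8, 2)) [.fwd 249, .fwd 256, .fwd 257],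
   .loop (some (9, 3)) [.fwd 258, .bwd 250, .fwd 256],
   .define,
   .loop (some (6, 2)) [.fwd 258, .fwd 247, .bwd 245, .fwd 256, .fwd 260],
   .define,
   .loop (some (2, 2)) [.bwd 256, .fwd 245, .bwd 258, .bwd 261, .fwd 262],
   .loop (some (4, 3)) [.fwd 263, .fwd 257, .bwd 261],
   .loop (some (5, 3)) [.fwd 263, .fwd 259, .bwd 261],
   .define,
   .loop (some (6, 1)) [.fwd 263, .bwd 256, .bwd 253, .fwd 252, .fwd 266],
   .define,
   .define,
   .loop (some (3, 1)) [.bwd 140, .fwd 268, .fwd 269],
   .loop (some (10, 1)) [.bwd 269, .bwd 268, .fwd 141, .fwd 140, .bwd 270],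
   .define,
   .loop (some (3, 2)) [.bwd 272, .fwd 145, .fwd 272],
   .loop (some (10, 1)) [.fwd 269, .fwd 270, .bwd 143, .fwd 145, .fwd 272],
   .define,
   .define,
   .loop (some (7, 2)) [.fwd 270, .fwd 138, .fwd 268, .fwd 275, .fwd 276],
   .define,
   .loop (some (6, 2)) [.fwd 277, .fwd 271, .bwd 269, .fwd 275, .fwd 278],
   .define,
   .loop (some (21, 5)) [.fwd 184, .fwd 214, .fwd 216, .bwd 246, .fwd 248, .fwd 240, .fwd 118, .fwd 115, .bwd 114, .fwd 73, .fwd 39, .bwd 38, .fwd 32, .fwd 37, .fwd 35, .fwd 20, .bwd 22, .bwd 24, .bwd 23, .fwd 16, .fwd 15, .fwd 17, .fwd 23, .fwd 57, .fwd 137, .bwd 270, .bwd 277, .bwd 279, .fwd 280],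
   .define,
   .loop (some (7, 1)) [.bwd 188, .fwd 163, .bwd 184, .bwd 281, .fwd 282],
   .define,
   .loop (some (2, 1)) [.fwd 279, .fwd 277, .bwd 269, .fwd 275, .fwd 284],
   .loop (some (21, 4)) [.fwd 283, .bwd 188, .fwd 217, .fwd 219, .fwd 234, .fwd 235, .fwd 236, .fwd 129, .fwd 128, .bwd 117, .fwd 85, .fwd 84, .bwd 71, .fwd 65, .bwd 63, .bwd 27, .bwd 6, .fwd 2, .fwd 3, .fwd 4, .fwd 6, .fwd 10, .fwd 12, .fwd 21, .fwd 55, .bwd 139, .fwd 268, .fwd 275, .fwd 284],
   .define,
   .loop (some (3, 1)) [.fwd 183, .bwd 281, .fwd 287],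
   .loop (some (4, 1)) [.bwd 279, .fwd 280, .fwd 287],
   .loop (some (10, 1)) [.bwd 287, .fwd 281, .bwd 191, .bwd 190, .bwd 283],
   .define,
   .loop (some (10, 1)) [.fwd 287, .fwd 288, .bwd 168, .bwd 167, .fwd 291],
   .define,
   .loop (some (3, 1)) [.bwd 167, .fwd 291, .fwd 293],
   .loop (some (7, 0)) [.fwd 294, .fwd 148, .fwd 152, .bwd 148, .bwd 294],
   .define,
   .loop (some (0, 1)) [.fwd 290, .bwd 287, .bwd 292, .fwd 293, .fwd 296],
   .loop (some (10, 0)) [.bwd 296, .bwd 293, .bwd 291, .bwd 187, .fwd 190],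
   .loop (some (4, 3)) [.fwd 297, .bwd 286, .bwd 284]]

/-- justifications -/
noncomputable def just2 : List Cert.Just :=
  [.define,
   .loop (some (9, 2)) [.bwd 300, .fwd 295, .fwd 300],
   .loop (some (12, 2)) [.bwd 170, .bwd 294, .fwd 300],
   .define,
   .loop (some (5, 2)) [.bwd 300, .bwd 293, .fwd 303],
   .loop (some (12, 2)) [.fwd 175, .fwd 291, .fwd 303],
   .define,
   .loop (some (12, 2)) [.bwd 221, .bwd 288, .fwd 306],
   .loop (some (15, 1)) [.bwd 304, .bwd 303, .fwd 292, .fwd 287, .fwd 306],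
   .define,
   .loop (some (3, 1)) [.fwd 231, .bwd 307, .fwd 309],
   .loop (some (5, 1)) [.fwd 287, .fwd 306, .fwd 309],
   .define,
   .loop (some (12, 1)) [.fwd 283, .bwd 225, .fwd 312],
   .define,
   .loop (some (3, 1)) [.fwd 227, .fwd 312, .fwd 314],
   .loop (some (5, 1)) [.fwd 297, .bwd 313, .fwd 314],
   .define,
   .loop (some (6, 1)) [.bwd 284, .bwd 275, .bwd 274, .fwd 273, .fwd 317],
   .loop (some (7, 1)) [.bwd 317, .bwd 272, .fwd 144, .fwd 272, .fwd 317],
   .loop (some (13, 0)) [.fwd 318, .bwd 284, .fwd 299, .bwd 296, .bwd 293],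
   .loop (some (22, 6)) [.fwd 319, .bwd 317, .fwd 273, .fwd 317, .bwd 320, .fwd 293, .fwd 295, .fwd 294, .bwd 146, .fwd 68, .fwd 69, .fwd 31, .fwd 11, .bwd 10, .fwd 7, .fwd 10, .fwd 21, .bwd 24, .fwd 25, .fwd 57, .fwd 137, .bwd 140, .fwd 268],
   .loop (some (16, 2)) [.bwd 275, .fwd 321, .fwd 318],
   .loop (some (16, 2)) [.bwd 285, .fwd 322, .fwd 278],
   .loop (some (18, 2)) [.bwd 299, .fwd 284, .fwd 322, .fwd 299],
   .loop (some (18, 2)) [.fwd 289, .bwd 279, .fwd 323, .fwd 280],
   .define,
   .define,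
   .loop (some (9, 1)) [.bwd 326, .fwd 303, .fwd 327],
   .define,
   .loop (some (8, 1)) [.bwd 277, .bwd 289, .fwd 329],
   .loop (some (16, 0)) [.fwd 292, .fwd 325, .fwd 329],
   .define,
   .loop (some (9, 1)) [.bwd 329, .fwd 306, .fwd 332],
   .define,
   .loop (some (7, 1)) [.bwd 329, .fwd 288, .bwd 192, .fwd 298, .fwd 334],
   .loop (some (16, 0)) [.fwd 296, .fwd 324, .fwd 334],
   .define,
   .loop (some (9, 1)) [.bwd 334, .bwd 316, .fwd 337],
   .define,
   .define,
   .loop (some (7, 1)) [.bwd 266, .bwd 251, .bwd 180, .fwd 339, .fwd 340],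
   .define,
   .loop (some (23, 74)) [.bwd 222, .bwd 307, .fwd 332, .fwd 333, .fwd 330, .fwd 270, .bwd 137, .bwd 57, .bwd 23, .fwd 17, .fwd 16, .fwd 23, .fwd 57, .fwd 137, .bwd 270, .bwd 330, .bwd 333, .bwd 332, .fwd 307, .fwd 222, .fwd 203, .fwd 204, .bwd 246, .fwd 248, .bwd 239, .fwd 236, .bwd 127, .fwd 110, .bwd 200, .fwd 234, .fwd 256, .bwd 263, .bwd 267, .bwd 266, .fwd 254, .bwd 251, .bwd 180, .fwd 201, .bwd 222, .bwd 221, .bwd 168, .bwd 294, .fwd 295, .fwd 296, .bwd 298, .bwd 190, .bwd 188, .fwd 163, .fwd 154, .bwd 93, .fwd 95, .fwd 96, .fwd 95, .bwd 165, .fwd 163, .bwd 184, .bwd 183, .bwd 168, .fwd 148, .fwd 149, .fwd 152, .bwd 148, .fwd 168, .bwd 193, .fwd 226, .fwd 229, .bwd 302, .fwd 301, .bwd 308, .fwd 307, .bwd 231, .fwd 232, .bwd 218, .fwd 220, .bwd 128, .bwd 236, .fwd 237, .fwd 236, .bwd 215, .bwd 218, .bwd 224, .bwd 227, .fwd 229, .fwd 171, .bwd 160, .fwd 251, .fwd 266, .fwd 267, .bwd 264, .fwd 265, .bwd 267, .bwd 341, .bwd 340, .fwd 342],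
   .define,
   .loop (some (3, 1)) [.bwd 179, .fwd 339, .fwd 344],
   .define,
   .loop (some (10, 2)) [.fwd 343, .bwd 201, .fwd 179, .bwd 345, .fwd 346],
   .loop (some (10, 0)) [.bwd 346, .bwd 344, .bwd 339, .fwd 201, .fwd 203],
   .loop (some (0, 1)) [.fwd 347, .bwd 342, .fwd 344, .fwd 346, .fwd 347, .bwd 342],
   .loop none [.bwd 349],
   .loop none [.fwd 346, .bwd 350, .fwd 342],
   .loop none [.fwd 348, .bwd 350, .bwd 339],
   .loop none [.bwd 351],
   .loop none [.bwd 345, .bwd 353, .fwd 343],
   .loop none [.bwd 352],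
   .loop none [.fwd 211, .bwd 355, .fwd 201],
   .loop none [.bwd 204, .bwd 355, .fwd 180],
   .loop none [.fwd 233, .bwd 355, .bwd 178],
   .loop none [.fwd 209, .bwd 355, .fwd 181],
   .loop none [.bwd 205, .bwd 355, .fwd 182],
   .loop none [.fwd 354],
   .loop none [.fwd 222, .bwd 361, .fwd 177],
   .loop none [.bwd 202, .bwd 361, .bwd 176],
   .loop none [.bwd 356, .bwd 361],
   .loop none [.fwd 228, .bwd 364, .fwd 177],
   .loop none [.bwd 213, .bwd 364, .bwd 176],
   .loop none [.bwd 357],
   .loop none [.bwd 196, .bwd 367, .bwd 158],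
   .loop none [.bwd 358],
   .loop none [.fwd 310, .bwd 369, .bwd 302],
   .loop none [.bwd 359],
   .loop none [.fwd 206, .bwd 371, .fwd 182],
   .loop none [.bwd 360],
   .loop none [.fwd 113, .bwd 373, .fwd 75],
   .loop none [.bwd 362],
   .loop none [.fwd 307, .bwd 375, .bwd 305],
   .loop none [.bwd 363],
   .loop none [.fwd 101, .bwd 377, .fwd 78],
   .loop none [.bwd 365],
   .loop none [.fwd 315, .bwd 379, .bwd 305],
   .loop none [.bwd 366],
   .loop none [.bwd 368],
   .loop none [.fwd 382, .bwd 85, .bwd 382, .fwd 73],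
   .loop none [.bwd 370],
   .loop none [.bwd 311, .bwd 384, .bwd 300],
   .loop none [.bwd 372],
   .loop none [.fwd 381, .bwd 374],
   .loop none [.bwd 79, .bwd 387, .bwd 51],
   .loop none [.bwd 376],
   .loop none [.bwd 332, .bwd 389, .fwd 327],
   .loop none [.fwd 306, .bwd 389, .bwd 303],
   .loop none [.fwd 386, .bwd 378],
   .loop none [.fwd 74, .bwd 392, .bwd 52],
   .loop none [.bwd 380],
   .loop none [.bwd 337, .bwd 394, .fwd 327],
   .loop none [.bwd 383],
   .loop none [.fwd 71, .bwd 396, .bwd 38],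
   .loop none [.fwd 385],
   .loop none [.bwd 294, .bwd 398],
   .loop none [.fwd 336, .bwd 398, .fwd 325],
   .loop none [.bwd 388],
   .loop none [.bwd 146, .bwd 401, .fwd 31],
   .loop none [.bwd 390],
   .loop none [.bwd 333, .bwd 403, .fwd 328],
   .loop none [.fwd 391],
   .loop none [.fwd 291, .bwd 405],
   .loop none [.fwd 331, .bwd 405, .bwd 325],
   .loop none [.bwd 393],
   .loop none [.bwd 166, .bwd 408, .fwd 43],
   .loop none [.bwd 395],
   .loop none [.bwd 338, .bwd 410, .fwd 328],
   .loop none [.bwd 397],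
   .loop none [.fwd 150, .bwd 412, .bwd 27],
   .loop none [.bwd 400],
   .loop none [.bwd 335, .bwd 414, .fwd 406],
   .loop none [.bwd 402],
   .loop none [.fwd 399, .bwd 416, .fwd 11],
   .loop none [.bwd 404],
   .loop none [.fwd 418, .bwd 407],
   .loop none [.bwd 409],
   .loop none [.fwd 414, .bwd 411, .bwd 419],
   .loop none [.fwd 325, .bwd 421],
   .loop none [.bwd 413],
   .loop none [.fwd 423, .bwd 152, .bwd 423, .bwd 6],
   .loop none [.fwd 419, .fwd 418, .bwd 415, .bwd 420],
   .loop none [.fwd 425, .bwd 422, .bwd 425, .bwd 43],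
   .loop none [.fwd 425, .bwd 417],
   .loop none [.fwd 427, .bwd 15, .bwd 427, .bwd 10],
   .loop none [.fwd 43, .bwd 427, .bwd 31],
   .loop none [.bwd 424],
   .loop none [.fwd 426, .bwd 427],
   .loop none [.bwd 428, .bwd 430],
   .loop none [.fwd 31, .bwd 432, .bwd 0],
   .loop none [.fwd 429, .bwd 431, .bwd 432],
   .loop none [.fwd 434, .bwd 433],
   .loop none [.fwd 0, .bwd 435]]

/-- justifications -/
noncomputable def justs : List Cert.Just := just0 ++ just1 ++ just2

end CfsgLib.ANineThree.NoSeven.Dts
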