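import Cfsg.Agent.Lib.PresCert.Check

/-!
Coset table certificate (generated data).
-/

namespace CfsgLib.ANineThree.NoSeven.Dzo

open CfsgLib.PresCert

noncomputable def tab : BTree := (.leaf 0x23cc00930000000000a800030000000000880002800000000068000200000000004800018000000000280001000000000008000080000)

noncomputable def par : BTree := (.node (.node (.leaf 0x30000f000000000030000b000000000030001c000000000040001900000000004000170000000000400016000000000050001800000000002000150000000000500015000000000050001400000000003000070000000000300006000000000050000f000000000050000c0000000000600006000000000040000c000000000010000c000000000050000b000000000040000b000000000000000b000000000060000200000000005000070000000000500006000000000050000500000000004000040000000000400003000000000040000200000000000000030000000000200002000000000030000100000000006000000000000000000000) (.leaf 0x100047000000000030003e0000000000000042000000000030003100000000003000320000000000300033000000000030002e000000000050003a0000000000500038))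 (.node (.leaf 0x10003e00000000000000390000000000600023000000000060003000000000006000200000000000100038000000000060002100000000000000370000000000200036000000000060001f0000000000100031000000000000002e000000000040002c0000000000400029000000000040002a0000000000400022000000000040002300000000004000250000000000400021000000000000002900000000000000250000000000300029000000000050002600000000000000270000000000300026000000000020001f0000000000500024000000000020001e00000000001000220000000000500020000000000050001e000000000010001f) (.leaf 0x0)))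

noncomputable def fact : BTree := (.node (.node (.node (.node (.leaf 0x26000082000090002500009500006000240000840000800023000083000080002200008500005000210000600000700020000072000070001f000061000070001e000074000040001d000052000060001c000064000030001b000053000050001a0000510000500019000054000020001800004500004000170000430000400016000042000040001500003100004000140000400000300013000035000030001200003300003000110000320000200010000025000020000f000020000020000e000021000020000d000023000010000c000015000010000b000014000010000a00001100001000090000120000100008000010000010000700001600000) (.leaf 0x1250000060000000124000017000000012300001700000001220001d700001001210001d700001001200001c7000010011f000047000010011e0001c7000040011d000197000040011c000047000010011b000037000010011a000197000040011900017700004001180000440000400117000077000040011600001300001001150000370000100114000027000010011300017700004001120000a700004001110003b70000a001100003b7000070010f0003c70000a0010e0003d70003c0010d000027000010010c000087000020010b0000a7000040010a0001270000f001090003b70000a0010800020700012001070003d70000a))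 (.node (.leaf 0xa600037400037000a500037200036000a400036400036000a30003660001f000a20002b400035000a100034200035000a0000351000310009f000321000340009e0003400002e0009d000330000310009c000335000330009b000332000330009a0002e100033000990003340002c000980002f20003200097000324000290009600030200031000950003140002a000940002f500030000930002f300030000920002f1000300009100030400022000900002d00002f0008f0002f4000230008e0002d20002e0008d0002e4000250008c0002d50002d0008b0002d30002d0008a0002d10002d000890002d400021000880002c500028000870002c30002c) (.leaf 0x0))) (.node (.node (.leaf 0x660002150001e000650001f400020000640000c300020000630002010001f000620001e00001f000610001f30000f000600001e40001e0005f0001e10001e0005e0001e30000b0005d0001d60001d0005c0001d30001c0005b0001b20001c0005a0001c400019000590001a10001b000580001b400017000570001a400016000560001720001900055000195000180005400018200015000530000a3000170005200016100017000510001750001500050000093000160004f000165000140004e000141000150004d000153000070004c000143000060004b0000e0000130004a0001240001300049000122000130004800012100013000470001350000f)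 (.leaf 0x0)) (.node (.leaf 0xe60003170002f000e500025700021000e40004270002d000e30002e70002d000e200034700031000e10002b700029000e00003470002f000df00035700032000de0002e70002d000dd00031700034000dc0003370002e000db00035700032000da00042000044000d900046700044000d80003370002e000d700044700046000d600043700042000d500043700042000d400048400047000d300043600048000d20003f300048000d100048100047000d00004730003e000cf00046300035000ce00046000042000cd00044400045000cc00044200045000cb00045300031000ca00043000044000c900044300032000c800043500043000c700043400043) (.leaf 0x0)))) (.node (.node (.node (.leaf 0x460000a600012000450001250000c00044000113000100004300010500011000420000f400011000410001010001100040000112000100003f0000d0000110003e000116000060003d000076000100003c0001040000c0003b0000460000f0003a0000c20000f000390000f10000c000380000860000e000370000e40000e000360000e20000e000350000e10000e000340000e50000b000330000d30000d000320000d50000d000310000560000d000300000d20000d0002f0000d10000d0002e0000d40000b0002d0000360000c0002c0000c00000b0002b0000b10000b0002a0000b20000b000290000b600002000280000a40000a000270000a500007)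 (.leaf 0x0)) (.node (.leaf 0xc600042100043000c500043300033000c400042400042000c300042200042000c20004230002e000c10002e600041000c00003f400041000bf00040300041000be0004150003a000bd0003e400040000bc00040500038000bb0002c60003f000ba0003e50003f000b90003f10003e000b80002560003e000b70003e000039000b60003d600023000b50003b50003c000b40003c600030000b30003b600020000b20002860003a000b10003840003a000b00003830003a000af0003a100038000ae00039500039000ad00039100039000ac00039600021000ab00024600038000aa00038000037000a900037300037000a800037100037000a70001e600037) (.leaf 0x0))) (.node (.node (.leaf 0x860002c20002c000850002510002c000840002c000029000830002a10002b000820002b000025000810002220002a000800002a3000290007f000232000290007e000295000260007d000284000280007c000283000280007b000282000280007a000241000280007900028000027000780002740002600077000202000270007600027300026000750002620001f000740002530002500073000212000250007200025500024000710002440002400070000243000240006f0002420001e0006e0001f5000230006d000133000230006c000231000220006b000210000220006a000123000220006900022500020000680000e3000210006700021100021)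 (.leaf 0x0)) (.node (.leaf 0x10600023700012001050003c70003d00104000307000230010300008700002001020000e70000b001010001e70000e001000002070000f000ff00022700013000fe00030700020000fd00030700012000fc00030700023000fb0002f700022000fa0001e70000b000f90002170000e000f800029700022000f70002170001e000f60002d700021000f50004470002f000f400029700013000f30002a700023000f200044700022000f100045700030000f00002170000e000ef00029700022000ee00025700021000ed0002d700021000ec0004470002f000eb0004270002d000ea00025000029000e90002b700029000e80002a700023000e700045700030) (.leaf 0x0)))))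

/-- the certificate -/
noncomputable def cert : Cert where
  n := 1
  v := 72
  g := 7
  inv := [0, 1, 2, 3, 4, 5, 6]
  rels := [[0, 1, 0, 1, 0, 1], [1, 0, 1, 1, 0, 1], [1, 2, 1, 2, 1, 2], [1, 3, 1, 3], [1, 4, 1, 4], [1, 5, 1, 5], [2, 0, 1, 2, 0, 1], [2, 3, 2, 3, 2, 3], [2, 4, 2, 4], [2, 5, 2, 5], [3, 0, 1, 3, 0, 1], [3, 4, 3, 4, 3, 4], [3, 5, 3, 5], [4, 0, 1, 4, 0, 1], [4, 5, 4, 5, 4, 5], [5, 0, 1, 5, 0, 1], [6, 0, 6, 2], [6, 1, 6, 1], [6, 4, 6, 4, 1], [6, 5, 6, 4, 5, 4, 1], [6, 0, 1, 6, 1, 2], [6, 3, 2, 1, 4, 3, 2, 5, 4, 3, 6, 3, 2, 1, 4, 3, 2, 5, 4, 3, 6, 3, 2, 1, 4, 3, 2, 5, 4, 3], [1, 2, 3, 6, 1, 3, 6, 3, 2, 1, 2, 4, 1, 2, 3, 6, 1, 3, 6, 3, 2, 1, 2, 4], [1, 2, 3, 6, 1, 3, 4, 3, 6, 3, 2, 1, 0, 2, 4, 3, 2, 0, 4, 5, 0, 3, 2, 0, 3, 1, 2, 3, 6, 1, 3, 4, 3, 6, 3, 2, 1, 0, 2, 4, 3, 2, 0, 4, 5, 0, 3, 2, 0, 3, 1, 2, 3, 6, 1, 3, 4, 3, 6, 3, 2, 1, 0, 2, 4, 3, 2, 0, 4, 5, 0, 3, 2, 0, 3, 4, 3, 2, 5, 4, 3, 6, 3, 4, 5, 4, 3, 1, 6, 3, 4, 5, 2, 3, 4]]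
  subs := [[0], [1], [2], [3], [4], [5]]
  tab := tab
  par := par
  fact := fact
  nfact := 287

/-- justifications -/
noncomputable def just0 : List Cert.Just :=
  [.define,
   .loop (some (16, 1)) [.bwd 0, .edge 2, .fwd 0],
   .loop (some (16, 3)) [.bwd 0, .edge 0, .fwd 0],
   .loop (some (17, 1)) [.bwd 0, .edge 1, .fwd 0],
   .loop (some (18, 1)) [.bwd 0, .edge 4, .edge 1, .fwd 0],
   .loop (some (19, 1)) [.bwd 0, .edge 4, .edge 5, .edge 4, .edge 1, .fwd 0],
   .define,
   .loop (some (3, 2)) [.bwd 6, .fwd 3, .fwd 6],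
   .loop (some (10, 1)) [.fwd 7, .bwd 6, .fwd 1, .fwd 3, .fwd 6],
   .loop (some (12, 1)) [.bwd 6, .fwd 5, .fwd 6],
   .define,
   .loop (some (7, 1)) [.bwd 10, .bwd 6, .fwd 2, .fwd 6, .fwd 10],
   .loop (some (9, 1)) [.bwd 10, .fwd 9, .fwd 10],
   .define,
   .loop (some (6, 2)) [.bwd 10, .fwd 8, .fwd 7, .fwd 10, .fwd 13],
   .loop (some (2, 5)) [.fwd 14, .bwd 10, .fwd 7, .fwd 10, .bwd 14],
   .loop (some (3, 3)) [.fwd 14, .fwd 11, .bwd 14],
   .loop (some (5, 3)) [.fwd 14, .fwd 12, .bwd 14],
   .define,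
   .loop (some (4, 2)) [.bwd 18, .fwd 7, .fwd 18],
   .loop (some (11, 2)) [.bwd 18, .bwd 6, .fwd 4, .fwd 6, .fwd 18],
   .define,
   .loop (some (8, 2)) [.bwd 18, .fwd 10, .fwd 21],
   .define,
   .loop (some (4, 2)) [.bwd 21, .bwd 14, .fwd 23],
   .loop (some (8, 2)) [.bwd 23, .fwd 15, .fwd 23],
   .loop (some (13, 1)) [.bwd 24, .bwd 23, .bwd 13, .bwd 14, .fwd 23],
   .define,
   .loop (some (12, 2)) [.bwd 27, .fwd 20, .fwd 27],
   .loop (some (14, 2)) [.bwd 27, .bwd 18, .fwd 9, .fwd 18, .fwd 27],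
   .define,
   .loop (some (9, 2)) [.bwd 27, .bwd 22, .fwd 30],
   .define,
   .loop (some (14, 2)) [.bwd 32, .bwd 23, .fwd 17, .fwd 23, .fwd 32],
   .define,
   .loop (some (16, 3)) [.bwd 34, .fwd 8, .fwd 34],
   .loop (some (17, 1)) [.bwd 34, .fwd 7, .fwd 34],
   .define,
   .loop (some (16, 2)) [.bwd 10, .fwd 34, .fwd 37],
   .define,
   .loop (some (4, 2)) [.bwd 39, .fwd 36, .fwd 39],
   .loop (some (8, 2)) [.bwd 39, .fwd 35, .fwd 39],
   .loop (some (18, 2)) [.bwd 18, .fwd 7, .fwd 34, .fwd 39],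
   .loop (some (19, 4)) [.bwd 39, .fwd 36, .bwd 34, .fwd 9, .fwd 34, .fwd 39],
   .loop (some (22, 5)) [.fwd 42, .fwd 20, .bwd 22, .bwd 24, .fwd 25, .bwd 23, .fwd 14, .bwd 10, .bwd 6, .bwd 0, .edge 1, .edge 3, .fwd 0, .fwd 6, .fwd 10, .bwd 14, .fwd 15, .fwd 23, .fwd 24, .fwd 22, .fwd 20, .bwd 42, .fwd 40],
   .define,
   .loop (some (5, 2)) [.bwd 45, .fwd 36, .fwd 45],
   .loop (some (9, 2)) [.bwd 45, .fwd 35, .fwd 45],
   .loop (some (14, 2)) [.bwd 45, .fwd 39, .fwd 43, .bwd 39, .fwd 45],
   .loop (some (19, 2)) [.fwd 29, .bwd 27, .bwd 18, .fwd 7, .fwd 34, .fwd 45],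
   .define,
   .loop (some (6, 3)) [.bwd 37, .fwd 36, .fwd 35, .fwd 37, .fwd 50],
   .loop (some (17, 2)) [.fwd 14, .bwd 38, .fwd 50],
   .define,
   .loop (some (18, 2)) [.bwd 23, .fwd 14, .bwd 38, .fwd 53],
   .define,
   .loop (some (16, 1)) [.fwd 42, .bwd 22, .fwd 55],
   .loop (some (16, 3)) [.bwd 55, .bwd 26, .bwd 54],
   .loop (some (17, 1)) [.fwd 54, .fwd 24, .fwd 55],
   .loop (some (18, 1)) [.fwd 52, .fwd 23, .fwd 24, .fwd 55],
   .loop (some (19, 1)) [.fwd 54, .bwd 23, .fwd 17, .fwd 23, .fwd 24, .fwd 55],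
   .loop (some (10, 0)) [.fwd 56, .fwd 40, .fwd 44, .bwd 56, .fwd 58],
   .define,
   .loop (some (19, 2)) [.fwd 33, .bwd 32, .bwd 23, .fwd 14, .bwd 38, .fwd 62],
   .define,
   .loop (some (5, 2)) [.bwd 62, .fwd 50, .fwd 64],
   .loop (some (9, 2)) [.bwd 62, .bwd 51, .fwd 64],
   .loop (some (14, 2)) [.bwd 62, .fwd 53, .bwd 60, .fwd 59, .fwd 64],
   .loop (some (15, 1)) [.fwd 46, .bwd 45, .fwd 37, .fwd 50, .fwd 64],
   .define,
   .define,
   .loop (some (3, 2)) [.bwd 69, .bwd 24, .fwd 70],
   .define,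
   .loop (some (12, 2)) [.bwd 30, .fwd 69, .fwd 72],
   .define,
   .loop (some (5, 2)) [.bwd 72, .bwd 71, .fwd 74],
   .loop (some (12, 2)) [.bwd 32, .fwd 70, .fwd 74],
   .define,
   .define,
   .loop (some (9, 2)) [.bwd 74, .fwd 77, .fwd 78],
   .define,
   .define,
   .loop (some (4, 2)) [.bwd 80, .bwd 75, .fwd 81],
   .define,
   .loop (some (8, 2)) [.bwd 81, .bwd 79, .fwd 83],
   .define,
   .loop (some (21, 0)) [.bwd 85, .fwd 84, .fwd 82, .bwd 80, .fwd 73, .fwd 31, .bwd 27, .bwd 18, .bwd 6, .bwd 0, .edge 3, .edge 2, .edge 1, .edge 4, .edge 3, .edge 2, .edge 5, .edge 4, .edge 3, .fwd 0, .fwd 6, .fwd 10, .bwd 14, .fwd 23, .fwd 70, .fwd 77, .fwd 78, .fwd 83, .fwd 85],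
   .define,
   .loop (some (3, 2)) [.bwd 87, .fwd 36, .fwd 87],
   .loop (some (11, 1)) [.bwd 87, .fwd 39, .fwd 44, .bwd 39, .fwd 87],
   .define,
   .loop (some (10, 1)) [.fwd 88, .bwd 87, .fwd 37, .fwd 50, .fwd 90],
   .define,
   .loop (some (3, 1)) [.fwd 50, .fwd 90, .fwd 92],
   .loop (some (13, 3)) [.fwd 91, .fwd 88, .fwd 89, .bwd 91, .fwd 92],
   .define,
   .loop (some (5, 2)) [.bwd 95, .fwd 88, .fwd 95],
   .loop (some (12, 2)) [.bwd 45, .fwd 87, .fwd 95],
   .define,
   .loop (some (12, 2)) [.bwd 62, .bwd 93, .fwd 98],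
   .loop (some (15, 1)) [.fwd 96, .bwd 95, .bwd 91, .fwd 92, .fwd 98],
   .define,
   .loop (some (3, 1)) [.fwd 65, .bwd 99, .fwd 101],
   .loop (some (5, 1)) [.fwd 92, .fwd 98, .fwd 101],
   .define,
   .loop (some (7, 1)) [.bwd 104, .bwd 87, .fwd 35, .fwd 87, .fwd 104],
   .loop (some (8, 1)) [.bwd 104, .fwd 89, .fwd 104],
   .define,
   .loop (some (9, 2)) [.bwd 95, .fwd 104, .fwd 107],
   .loop (some (12, 2)) [.bwd 107, .fwd 105, .fwd 107],
   .define,
   .define,
   .loop (some (7, 2)) [.fwd 93, .bwd 51, .fwd 90, .fwd 110, .fwd 111],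
   .loop (some (8, 3)) [.fwd 112, .fwd 94, .fwd 110],
   .define,
   .loop (some (6, 2)) [.bwd 104, .bwd 91, .fwd 92, .bwd 112, .fwd 114],
   .loop (some (2, 5)) [.fwd 115, .bwd 104, .fwd 88, .fwd 104, .bwd 115],
   .loop (some (3, 3)) [.fwd 115, .fwd 105, .bwd 115],
   .loop (some (4, 3)) [.fwd 115, .fwd 106, .bwd 115],
   .define,
   .loop (some (9, 2)) [.fwd 103, .fwd 110, .fwd 119],
   .define,
   .loop (some (7, 2)) [.fwd 99, .bwd 66, .bwd 102, .bwd 120, .fwd 121],
   .define,
   .loop (some (6, 2)) [.fwd 122, .fwd 100, .fwd 96, .bwd 108, .fwd 123],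
   .define,
   .loop (some (6, 2)) [.fwd 108, .bwd 100, .fwd 101, .bwd 120, .fwd 125],
   .loop (some (2, 5)) [.fwd 126, .fwd 108, .fwd 96, .bwd 108, .bwd 126],
   .loop (some (3, 3)) [.fwd 126, .fwd 109, .bwd 126],
   .loop (some (5, 3)) [.fwd 126, .bwd 107, .bwd 115],
   .define,
   .loop (some (4, 2)) [.bwd 130, .fwd 96, .fwd 130],
   .loop (some (11, 2)) [.bwd 130, .fwd 97, .fwd 48, .bwd 97, .fwd 130],
   .loop (some (14, 1)) [.bwd 130, .bwd 95, .fwd 89, .fwd 95, .fwd 130],
   .define,
   .loop (some (8, 2)) [.bwd 130, .bwd 108, .fwd 134],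
   .define,
   .loop (some (13, 1)) [.fwd 131, .bwd 130, .bwd 100, .fwd 101, .fwd 136],
   .define,
   .loop (some (4, 2)) [.bwd 136, .bwd 101, .fwd 138],
   .loop (some (11, 2)) [.bwd 136, .fwd 102, .fwd 67, .bwd 99, .fwd 138],
   .loop (some (14, 1)) [.bwd 136, .fwd 103, .bwd 94, .fwd 98, .fwd 138],
   .define,
   .loop (some (8, 2)) [.bwd 138, .bwd 122, .fwd 142],
   .define,
   .loop (some (8, 2)) [.bwd 136, .bwd 120, .fwd 144],
   .define,
   .loop (some (4, 2)) [.bwd 134, .bwd 126, .fwd 146],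
   .loop (some (8, 2)) [.bwd 146, .fwd 127, .fwd 146],
   .loop (some (14, 1)) [.bwd 146, .bwd 129, .fwd 118, .fwd 129, .fwd 146]]

/-- justifications -/
noncomputable def just1 : List Cert.Just :=
  [.loop (some (6, 1)) [.fwd 147, .fwd 135, .bwd 137, .bwd 139, .bwd 143],
   .define,
   .loop (some (6, 2)) [.fwd 145, .fwd 137, .fwd 131, .bwd 135, .fwd 151],
   .define,
   .loop (some (2, 1)) [.fwd 152, .fwd 145, .bwd 139, .bwd 143, .fwd 153],
   .loop (some (4, 1)) [.fwd 124, .fwd 142, .fwd 153],
   .define,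
   .loop (some (18, 1)) [.bwd 156, .bwd 94, .bwd 92, .fwd 156],
   .define,
   .loop (some (8, 1)) [.bwd 158, .fwd 157, .fwd 158],
   .loop (some (16, 0)) [.bwd 91, .fwd 156, .fwd 158],
   .loop (some (20, 4)) [.bwd 158, .bwd 156, .fwd 91, .fwd 88, .bwd 160],
   .loop (some (22, 5)) [.fwd 160, .bwd 87, .fwd 35, .fwd 36, .fwd 35, .fwd 39, .fwd 40, .fwd 41, .fwd 44, .fwd 42, .fwd 19, .fwd 20, .bwd 42, .fwd 44, .fwd 41, .fwd 40, .fwd 41, .bwd 39, .fwd 36, .fwd 35, .fwd 87, .bwd 160, .fwd 161],
   .define,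
   .loop (some (16, 2)) [.bwd 104, .bwd 160, .fwd 163],
   .define,
   .loop (some (17, 1)) [.bwd 165, .fwd 96, .fwd 165],
   .loop (some (19, 1)) [.bwd 165, .fwd 130, .fwd 133, .bwd 130, .fwd 96, .fwd 165],
   .define,
   .loop (some (10, 3)) [.bwd 163, .fwd 161, .fwd 162, .fwd 163, .fwd 168],
   .loop (some (13, 3)) [.bwd 163, .fwd 161, .fwd 159, .fwd 163, .fwd 168],
   .loop (some (17, 2)) [.fwd 115, .bwd 164, .fwd 168],
   .define,
   .define,
   .loop (some (19, 1)) [.bwd 172, .fwd 94, .bwd 103, .fwd 136, .bwd 139, .fwd 173],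
   .define,
   .define,
   .loop (some (16, 2)) [.fwd 108, .fwd 165, .fwd 176],
   .define,
   .loop (some (15, 3)) [.bwd 176, .fwd 166, .fwd 167, .fwd 176, .fwd 178],
   .loop (some (17, 2)) [.fwd 126, .bwd 177, .fwd 178],
   .define,
   .loop (some (19, 5)) [.fwd 178, .fwd 180, .bwd 129, .bwd 171, .fwd 170, .fwd 181],
   .define,
   .loop (some (12, 2)) [.bwd 181, .bwd 169, .fwd 183],
   .loop (some (14, 2)) [.fwd 179, .bwd 182, .bwd 181, .bwd 170, .fwd 183],
   .loop (some (19, 2)) [.bwd 134, .bwd 107, .fwd 106, .bwd 115, .bwd 171, .fwd 183],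
   .define,
   .loop (some (7, 2)) [.bwd 187, .fwd 135, .fwd 132, .bwd 135, .fwd 187],
   .loop (some (11, 1)) [.bwd 187, .bwd 134, .fwd 109, .fwd 134, .fwd 187],
   .define,
   .loop (some (3, 2)) [.bwd 187, .bwd 147, .fwd 190],
   .loop (some (11, 1)) [.bwd 190, .bwd 146, .fwd 128, .fwd 146, .fwd 190],
   .loop (some (12, 1)) [.bwd 190, .fwd 149, .fwd 190],
   .define,
   .loop (some (10, 1)) [.fwd 191, .bwd 187, .fwd 151, .fwd 152, .fwd 194],
   .define,
   .loop (some (7, 2)) [.bwd 194, .fwd 145, .bwd 140, .bwd 143, .fwd 196],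
   .loop (some (11, 1)) [.bwd 194, .bwd 144, .fwd 121, .fwd 142, .fwd 196],
   .define,
   .loop (some (10, 0)) [.bwd 199, .bwd 191, .bwd 190, .bwd 150, .fwd 153],
   .define,
   .define,
   .loop (some (3, 1)) [.bwd 178, .fwd 201, .fwd 202],
   .loop (some (23, 88)) [.bwd 190, .bwd 146, .bwd 129, .fwd 116, .fwd 117, .fwd 118, .fwd 115, .bwd 104, .bwd 87, .bwd 34, .fwd 7, .bwd 6, .fwd 4, .fwd 6, .fwd 34, .fwd 87, .fwd 104, .bwd 115, .bwd 114, .fwd 112, .fwd 94, .bwd 90, .fwd 51, .bwd 37, .fwd 39, .fwd 43, .bwd 56, .bwd 61, .fwd 57, .fwd 56, .fwd 44, .fwd 40, .fwd 41, .fwd 44, .fwd 42, .fwd 19, .fwd 20, .bwd 18, .bwd 6, .bwd 0, .edge 3, .edge 2, .edge 1, .edge 0, .edge 2, .edge 4, .edge 3, .edge 2, .edge 0, .edge 4, .edge 5, .edge 0, .edge 3, .edge 2, .edge 0, .edge 3, .edge 1, .edge 2, .edge 3, .fwd 0, .fwd 3, .fwd 6, .fwd 18, .fwd 20, .bwd 42, .fwd 44, .fwd 41, .fwd 40, .bwd 56, .bwd 57, .bwd 53, .bwd 93, .bwd 112, .fwd 114, .fwd 118, .fwd 129, .bwd 125, .fwd 121, .fwd 122, .fwd 100, .fwd 97,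 .fwd 48, .bwd 97, .bwd 108, .bwd 107, .fwd 106, .fwd 105, .bwd 164, .bwd 169, .fwd 170, .fwd 181, .fwd 182, .fwd 201, .fwd 202],
   .loop (some (11, 5)) [.fwd 203, .bwd 185, .fwd 184, .fwd 182, .fwd 201],
   .loop (some (23, 3)) [.bwd 204, .bwd 202, .bwd 201, .bwd 182, .bwd 184, .fwd 186, .fwd 187, .fwd 188, .bwd 191, .bwd 195, .bwd 197, .fwd 198, .bwd 194, .fwd 145, .fwd 137, .bwd 130, .bwd 95, .bwd 91, .bwd 90, .fwd 51, .bwd 37, .fwd 87, .fwd 88, .fwd 104, .fwd 105, .bwd 164, .fwd 168, .fwd 169, .bwd 170, .fwd 169, .fwd 164, .fwd 105, .bwd 104, .fwd 88, .bwd 91, .fwd 110, .fwd 113, .bwd 111, .bwd 110, .fwd 91, .fwd 89, .fwd 95, .bwd 100, .fwd 99, .bwd 66, .fwd 68, .bwd 97, .fwd 96, .bwd 108, .fwd 109, .bwd 177, .fwd 178, .bwd 203, .bwd 205, .bwd 201, .fwd 177, .fwd 109, .fwd 108, .fwd 96, .bwd 100, .bwd 122, .fwd 142, .fwd 196, .fwd 197, .fwd 195, .fwd 192, .fwd 193, .bwd 195, .bwd 194, .fwd 145, .fwd 137, .fwd 132, .bwd 130, .fwd 97, .fwd 47, .bwd 45, .fwd 39, .fwd 44, .fwd 42, .fwd 20, .bwd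 18, .fwd 9, .fwd 18, .fwd 20, .fwd 19, .bwd 42, .fwd 44, .bwd 39, .fwd 45, .fwd 47, .bwd 97, .fwd 130, .fwd 131, .bwd 135, .fwd 187],
   .loop none [.bwd 206],
   .loop none [.fwd 195, .bwd 207, .fwd 199],
   .loop none [.fwd 190, .bwd 207, .bwd 187],
   .loop none [.fwd 208],
   .loop none [.fwd 199, .bwd 210],
   .loop none [.fwd 200, .bwd 210, .bwd 194],
   .loop none [.bwd 209],
   .loop none [.fwd 150, .bwd 213, .fwd 151],
   .loop none [.fwd 213, .bwd 148, .bwd 213, .fwd 135],
   .loop none [.bwd 212],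
   .loop none [.bwd 154, .bwd 216, .fwd 145],
   .loop none [.bwd 155, .bwd 216, .bwd 144],
   .loop none [.fwd 214],
   .loop none [.bwd 215],
   .loop none [.bwd 187, .bwd 220, .fwd 132],
   .loop none [.fwd 134, .bwd 220, .bwd 130],
   .loop none [.fwd 219, .bwd 217],
   .loop none [.bwd 196, .bwd 223, .bwd 140],
   .loop none [.fwd 142, .bwd 223, .bwd 136],
   .loop none [.bwd 218],
   .loop none [.fwd 123, .bwd 226],
   .loop none [.bwd 221],
   .loop none [.fwd 211, .bwd 228, .bwd 137],
   .loop none [.fwd 228, .bwd 189, .bwd 228, .bwd 130],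
   .loop none [.bwd 222],
   .loop none [.fwd 227, .bwd 231, .bwd 100],
   .loop none [.fwd 231, .bwd 109, .bwd 231, .fwd 97],
   .loop none [.bwd 224],
   .loop none [.bwd 198, .bwd 234, .bwd 138],
   .loop none [.bwd 225],
   .loop none [.fwd 121, .bwd 236, .fwd 102],
   .loop none [.bwd 229],
   .loop none [.bwd 230],
   .loop none [.fwd 239, .bwd 133, .bwd 239, .bwd 95],
   .loop none [.bwd 232],
   .loop none [.bwd 233],
   .loop none [.fwd 95, .bwd 242, .bwd 45],
   .loop none [.fwd 238, .bwd 235],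
   .loop none [.fwd 139, .bwd 244, .fwd 101],
   .loop none [.fwd 140, .bwd 244, .fwd 99],
   .loop none [.fwd 141, .bwd 244, .bwd 98],
   .loop none [.fwd 241, .bwd 237],
   .loop none [.fwd 98, .bwd 248, .bwd 64],
   .loop none [.fwd 240, .bwd 242],
   .loop none [.fwd 250, .bwd 243],
   .loop none [.bwd 49, .bwd 251, .bwd 34],
   .loop none [.bwd 245],
   .loop none [.bwd 173, .bwd 253, .fwd 175],
   .loop none [.fwd 253, .bwd 246],
   .loop none [.bwd 175, .bwd 255, .fwd 63],
   .loop none [.fwd 247, .bwd 253, .bwd 255],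
   .loop none [.bwd 172, .bwd 257, .fwd 63],
   .loop none [.fwd 257, .bwd 249],
   .loop none [.bwd 63, .bwd 259, .fwd 52],
   .loop none [.bwd 252],
   .loop none [.fwd 261, .bwd 28, .bwd 261, .bwd 6],
   .loop none [.fwd 254],
   .loop none [.fwd 263, .bwd 256],
   .loop none [.bwd 174, .bwd 264, .bwd 32],
   .loop none [.bwd 258],
   .loop none [.bwd 260],
   .loop none [.fwd 76, .bwd 267, .fwd 16],
   .loop none [.bwd 262],
   .loop none [.bwd 10, .bwd 269, .fwd 2],
   .loop none [.fwd 6, .bwd 269],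
   .loop none [.fwd 265, .bwd 266, .bwd 267],
   .loop none [.fwd 23, .bwd 272],
   .loop none [.bwd 268],
   .loop none [.fwd 79, .bwd 274, .fwd 15],
   .loop none [.bwd 270],
   .loop none [.bwd 13, .bwd 276, .fwd 1],
   .loop none [.bwd 275],
   .loop none [.bwd 83, .bwd 278, .fwd 273],
   .loop none [.bwd 277],
   .loop none [.bwd 279, .bwd 280],
   .loop none [.bwd 85, .bwd 281, .fwd 271],
   .loop none [.bwd 282],
   .loop none [.fwd 283, .bwd 86, .bwd 283, .bwd 0],
   .loop none [.bwd 284],
   .loop none [.fwd 0, .bwd 285]]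

/-- justifications -/
noncomputable def justs : List Cert.Just := just0 ++ just1

end CfsgLib.ANineThree.NoSeven.Dzo
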