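import Cfsg.Agent.Lib.PresCert.Check

/-!
Coset table certificate (generated data).
-/

namespace CfsgLib.ANineThree.NoSeven.One

open CfsgLib.PresCert

noncomputable def tab : BTree := (.leaf 0xb8c00320000000000a800030000000000880002800000000068000200000000004800018000000000280001000000000008000080000)

noncomputable def par : BTree := (.leaf 0x30000b0000000000500012000000000050001100000000003000070000000000300006000000000050000f000000000010000c000000000050000b000000000040000b000000000000000b000000000060000200000000005000070000000000500006000000000050000500000000004000040000000000400003000000000040000200000000000000030000000000200002000000000030000100000000006000000000000000000000)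

noncomputable def fact : BTree := (.node (.node (.leaf 0x26000082000090002500009500006000240000840000800023000083000080002200008500005000210000600000700020000072000070001f000061000070001e000074000040001d000052000060001c000064000030001b000053000050001a0000510000500019000054000020001800004500004000170000430000400016000042000040001500003100004000140000400000300013000035000030001200003300003000110000320000200010000025000020000f000020000020000e000021000020000d000023000010000c000015000010000b000014000010000a00001100001000090000120000100008000010000010000700001600000) (.leaf 0x63000006000000006200001700000000610000170000000060000117000010005f000037000010005e000117000030005d000137000030005c000037000010005b000027000010005a000137000030005900009700003000580000270000100057000087000020005600009700003000550001070000c0005400008700002000530001070000c000520000e70000b000510000e70000b00050000116000110004f0000b30000e0004e0001570000e0004d0001570000e0004c000154000150004b0001530000b0004a00013000014000490000a30001400048000131000140004700014500012))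 (.node (.leaf 0x46000093000130004500013200013000440001350001100043000110000120004200011100012000410001230000700040000112000110003f000113000060003e000096000100003d0000e0000100003c0001050000f0003b0000460000f0003a0000f10000c000390000860000e000380000e40000e000370000e20000e000360000e10000e000350000e50000b000340000d30000d000330000d50000d000320000560000d000310000d10000d000300000d40000b0002f0000360000c0002e0000c00000b0002d0000b10000b0002c0000b20000b0002b0000b6000020002a0000900000a000290000910000a000280000a5000070002700009400009) (.leaf 0x0)))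

/-- the certificate -/
noncomputable def cert : Cert where
  n := 1
  v := 21
  g := 7
  inv := [0, 1, 2, 3, 4, 5, 6]
  rels := [[0, 1, 0, 1, 0, 1], [1, 0, 1, 1, 0, 1], [1, 2, 1, 2, 1, 2], [1, 3, 1, 3], [1, 4, 1, 4], [1, 5, 1, 5], [2, 0, 1, 2, 0, 1], [2, 3, 2, 3, 2, 3], [2, 4, 2, 4], [2, 5, 2, 5], [3, 0, 1, 3, 0, 1], [3, 4, 3, 4, 3, 4], [3, 5, 3, 5], [4, 0, 1, 4, 0, 1], [4, 5, 4, 5, 4, 5], [5, 0, 1, 5, 0, 1], [6, 0, 6, 2], [6, 1, 6, 1], [6, 4, 6, 4, 1], [6, 5, 6, 4, 5, 4, 1], [6, 0, 1, 6, 1, 2], [6, 3, 2, 1, 4, 3, 2, 5, 4, 3, 6, 3, 2, 1, 4, 3, 2, 5, 4, 3, 6, 3, 2, 1, 4, 3, 2, 5, 4, 3], [1, 2, 3, 6, 1, 3, 6, 3, 2, 1, 2, 4, 1, 2, 3, 6, 1, 3, 6, 3, 2, 1, 2, 4], [1, 2, 3, 6, 1, 3, 4, 3, 6, 3, 2, 1, 0, 2, 4, 3, 2, 0, 4, 5, 0, 3, 2, 0, 3, 1, 2, 3, 6, 1, 3, 4, 3, 6, 3, 2, 1, 0, 2, 4, 3, 2, 0, 4, 5, 0, 3, 2, 0, 3, 1, 2, 3, 6, 1, 3, 4, 3, 6, 3, 2, 1, 0, 2, 4, 3, 2, 0, 4, 5, 0, 3, 2, 0, 3]]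
  subs := [[0], [1], [2], [3], [4], [5]]
  tab := tab
  par := par
  fact := fact
  nfact := 93

/-- justifications -/
noncomputable def just0 : List Cert.Just :=
  [.define,
   .loop (some (16, 1)) [.bwd 0, .edge 2, .fwd 0],
   .loop (some (16, 3)) [.bwd 0, .edge 0, .fwd 0],
   .loop (some (17, 1)) [.bwd 0, .edge 1, .fwd 0],
   .loop (some (18, 1)) [.bwd 0, .edge 4, .edge 1, .fwd 0],
   .loop (some (19, 1)) [.bwd 0, .edge 4, .edge 5, .edge 4, .edge 1, .fwd 0],
   .define,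
   .loop (some (3, 2)) [.bwd 6, .fwd 3, .fwd 6],
   .loop (some (10, 1)) [.fwd 7, .bwd 6, .fwd 1, .fwd 3, .fwd 6],
   .loop (some (12, 1)) [.bwd 6, .fwd 5, .fwd 6],
   .define,
   .loop (some (7, 1)) [.bwd 10, .bwd 6, .fwd 2, .fwd 6, .fwd 10],
   .loop (some (9, 1)) [.bwd 10, .fwd 9, .fwd 10],
   .define,
   .loop (some (6, 2)) [.bwd 10, .fwd 8, .fwd 7, .fwd 10, .fwd 13],
   .loop (some (2, 5)) [.fwd 14, .bwd 10, .fwd 7, .fwd 10, .bwd 14],
   .loop (some (3, 3)) [.fwd 14, .fwd 11, .bwd 14],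
   .loop (some (5, 3)) [.fwd 14, .fwd 12, .bwd 14],
   .define,
   .loop (some (4, 2)) [.bwd 18, .fwd 7, .fwd 18],
   .loop (some (11, 2)) [.bwd 18, .bwd 6, .fwd 4, .fwd 6, .fwd 18],
   .define,
   .loop (some (8, 2)) [.bwd 18, .fwd 10, .fwd 21],
   .define,
   .loop (some (4, 2)) [.bwd 21, .bwd 14, .fwd 23],
   .loop (some (8, 2)) [.bwd 23, .fwd 15, .fwd 23],
   .loop (some (13, 1)) [.bwd 24, .bwd 23, .bwd 13, .bwd 14, .fwd 23],
   .define,
   .loop (some (12, 2)) [.bwd 27, .fwd 20, .fwd 27],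
   .loop (some (14, 2)) [.bwd 27, .bwd 18, .fwd 9, .fwd 18, .fwd 27],
   .define,
   .loop (some (9, 2)) [.bwd 27, .bwd 22, .fwd 30],
   .loop (some (14, 2)) [.bwd 30, .bwd 21, .fwd 12, .fwd 21, .fwd 30],
   .define,
   .loop (some (5, 2)) [.bwd 30, .bwd 24, .fwd 33],
   .loop (some (15, 1)) [.bwd 34, .bwd 33, .fwd 26, .bwd 24, .fwd 33],
   .define,
   .loop (some (16, 3)) [.bwd 36, .fwd 8, .fwd 36],
   .loop (some (17, 1)) [.bwd 36, .fwd 7, .fwd 36],
   .define,
   .loop (some (16, 2)) [.bwd 10, .fwd 36, .fwd 39],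
   .define,
   .loop (some (4, 2)) [.bwd 41, .fwd 38, .fwd 41],
   .loop (some (18, 2)) [.bwd 18, .fwd 7, .fwd 36, .fwd 41],
   .loop (some (19, 4)) [.bwd 41, .fwd 38, .bwd 36, .fwd 9, .fwd 36, .fwd 41],
   .loop (some (22, 5)) [.fwd 43, .fwd 20, .bwd 22, .bwd 24, .fwd 25, .bwd 23, .fwd 14, .bwd 10, .bwd 6, .bwd 0, .edge 1, .edge 3, .fwd 0, .fwd 6, .fwd 10, .bwd 14, .fwd 15, .fwd 23, .fwd 24, .fwd 22, .fwd 20, .bwd 43, .fwd 42],
   .define,
   .loop (some (5, 2)) [.bwd 46, .fwd 38, .fwd 46],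
   .loop (some (9, 2)) [.bwd 46, .fwd 37, .fwd 46],
   .loop (some (14, 2)) [.bwd 46, .fwd 41, .fwd 44, .bwd 41, .fwd 46],
   .loop (some (19, 2)) [.fwd 29, .bwd 27, .bwd 18, .fwd 7, .fwd 36, .fwd 46],
   .define,
   .loop (some (17, 2)) [.fwd 14, .bwd 40, .fwd 51],
   .define,
   .loop (some (15, 1)) [.fwd 47, .bwd 46, .fwd 39, .fwd 51, .fwd 53],
   .loop (some (19, 2)) [.fwd 32, .bwd 30, .bwd 21, .bwd 14, .bwd 52, .fwd 53],
   .define,
   .loop (some (7, 2)) [.bwd 56, .fwd 22, .fwd 20, .bwd 22, .fwd 56],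
   .define,
   .loop (some (3, 2)) [.bwd 56, .bwd 24, .fwd 58],
   .loop (some (10, 1)) [.bwd 59, .bwd 58, .fwd 26, .bwd 24, .fwd 58],
   .define,
   .loop (some (9, 2)) [.bwd 61, .fwd 57, .fwd 61],
   .loop (some (12, 2)) [.bwd 30, .fwd 56, .fwd 61],
   .define,
   .loop (some (5, 2)) [.bwd 61, .bwd 59, .fwd 64],
   .loop (some (12, 2)) [.bwd 33, .fwd 58, .fwd 64],
   .loop (some (15, 1)) [.bwd 65, .bwd 64, .fwd 60, .bwd 59, .fwd 64],
   .define,
   .loop (some (11, 1)) [.bwd 68, .fwd 41, .fwd 45, .bwd 41, .fwd 68],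
   .loop (some (23, 5)) [.bwd 68, .fwd 41, .fwd 45, .fwd 43, .fwd 20, .bwd 22, .bwd 24, .fwd 26, .fwd 22, .bwd 18, .bwd 6, .fwd 2, .fwd 1, .fwd 4, .fwd 5, .fwd 1, .fwd 6, .fwd 10, .fwd 13, .fwd 16, .fwd 14, .bwd 10, .bwd 6, .bwd 0, .edge 1, .edge 3, .edge 4, .edge 3, .fwd 0, .fwd 6, .fwd 10, .bwd 14, .bwd 13, .bwd 10, .fwd 18, .fwd 20, .bwd 22, .bwd 26, .bwd 23, .fwd 17, .bwd 13, .fwd 11, .bwd 10, .fwd 8, .bwd 6, .fwd 3, .fwd 2, .fwd 6, .fwd 36, .fwd 38, .fwd 68, .fwd 69, .bwd 68, .bwd 36, .bwd 6, .fwd 2, .fwd 3, .fwd 1, .fwd 2, .fwd 4, .fwd 6, .fwd 10, .fwd 13, .fwd 23, .fwd 33, .fwd 35, .bwd 63, .fwd 62, .bwd 67, .fwd 66, .fwd 34, .fwd 31, .fwd 28, .bwd 50, .fwd 47],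
   .loop none [.bwd 70],
   .loop none [.fwd 68, .bwd 71],
   .loop (some (21, 20)) [.bwd 56, .fwd 22, .fwd 19, .bwd 18, .bwd 6, .fwd 2, .fwd 5, .fwd 4, .fwd 6, .fwd 36, .bwd 72, .fwd 48, .fwd 47, .fwd 49, .fwd 72, .fwd 37, .fwd 46, .fwd 49, .fwd 72, .bwd 36, .bwd 6, .fwd 2, .fwd 3, .fwd 4, .fwd 6, .fwd 10, .fwd 12, .fwd 21, .fwd 56],
   .loop (some (7, 1)) [.fwd 72, .fwd 37, .bwd 72, .fwd 48, .fwd 72, .fwd 37],
   .loop none [.bwd 74],
   .loop none [.fwd 54, .bwd 75, .fwd 39],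
   .loop none [.bwd 50, .bwd 75, .bwd 36],
   .loop none [.bwd 76],
   .loop none [.bwd 55, .bwd 78, .fwd 40],
   .loop none [.bwd 77],
   .loop none [.fwd 80, .bwd 28, .bwd 80, .bwd 6],
   .loop none [.bwd 79],
   .loop none [.fwd 63, .bwd 82, .fwd 11],
   .loop none [.bwd 81],
   .loop none [.bwd 10, .bwd 84, .fwd 2],
   .loop none [.bwd 83],
   .loop none [.fwd 61, .bwd 86, .fwd 12],
   .loop none [.bwd 85],
   .loop none [.bwd 87, .bwd 88],
   .loop none [.fwd 89, .bwd 73, .bwd 89, .bwd 0],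
   .loop none [.bwd 90],
   .loop none [.fwd 0, .bwd 91]]

/-- justifications -/
noncomputable def justs : List Cert.Just := just0

end CfsgLib.ANineThree.NoSeven.One
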