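import Cfsg.Agent.Lib.ANineThree.Interface
import Cfsg.Agent.Lib.PresCert.Walk
import Cfsg.Agent.Lib.ANineThree.NoSeven.OneCert
import Cfsg.Agent.Lib.ANineThree.NoSeven.XCert
import Cfsg.Agent.Lib.ANineThree.NoSeven.DtsCert
import Cfsg.Agent.Lib.ANineThree.NoSeven.DzoCert
import Cfsg.Agent.Lib.ANineThree.NoSeven.WdCert

/-!
The configuration of the symplectic group: words in the letters `0, …, 5` (generators of the
stabilizer of the first block) and `6` (the element exchanging two lines), and the coset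
certificates.
-/

set_option autoImplicit false
set_option maxRecDepth 100000

namespace CfsgLib.ANineThree.NoSeven

open CfsgLib.PresCert Equiv

universe u

/-- `(1 2)(3 4)` and `(0 1)(k, k + 1)` for `k = 3, …, 7`, and a dummy -/
def sK : Fin 7 → K :=
  ![⟨swap 1 2 * swap 3 4, by decide +kernel⟩, ⟨swap 0 1 * swap 3 4, by decide +kernel⟩,
    ⟨swap 0 1 * swap 4 5, by decide +kernel⟩, ⟨swap 0 1 * swap 5 6, by decide +kernel⟩,
    ⟨swap 0 1 * swap 6 7, by decide +kernel⟩, ⟨swap 0 1 * swap 7 8, by decide +kernel⟩, 1]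

/-- the value of a word in the stabilizer -/
def wK (w : List (Fin 7)) : K := (w.map sK).prod

/-- relators inside the stabilizer -/
def rK6 : List (List (Fin 7)) :=
  [[0, 0], [1, 1], [2, 2], [3, 3], [4, 4], [5, 5],
   [0, 1, 0, 1, 0, 1], [1, 0, 1, 1, 0, 1], [1, 2, 1, 2, 1, 2], [1, 3, 1, 3], [1, 4, 1, 4],
   [1, 5, 1, 5], [2, 0, 1, 2, 0, 1], [2, 3, 2, 3, 2, 3], [2, 4, 2, 4], [2, 5, 2, 5],
   [3, 0, 1, 3, 0, 1], [3, 4, 3, 4, 3, 4], [3, 5, 3, 5], [4, 0, 1, 4, 0, 1],
   [4, 5, 4, 5, 4, 5], [5, 0, 1, 5, 0, 1]]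

/-- words exchanged by the last letter -/
def swapped : List (List (Fin 7) × List (Fin 7)) :=
  [([0], [2]), ([1], [1]), ([4], [1, 4]), ([5], [1, 4, 5, 4]), ([0, 1], [2, 1])]

/-- a word whose product with the last letter has order three -/
def oddW : List (Fin 7) := [3, 2, 1, 4, 3, 2, 5, 4, 3]

/-- conjugate of a word by the first carrier -/
def labA (w : List (Fin 7)) : List (Fin 7) := [1, 2, 3, 6] ++ w ++ [6, 3, 2, 1]

/-- conjugate of a word by the second carrier -/
def labD (w : List (Fin 7)) : List (Fin 7) :=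
  [4, 3, 2, 5, 4, 3, 6] ++ w ++ [6, 3, 4, 5, 2, 3, 4]

/-- the Coxeter element -/
def coxW : List (Fin 7) :=
  labA [1, 3, 4, 3] ++ [0, 2, 4, 3, 2, 0, 4] ++ [5] ++ [0, 3, 2, 0, 3]

/-- the four candidates for the cube of the Coxeter element -/
def candW : List (List (Fin 7)) :=
  [[], [2], labD [3, 4, 3, 5, 4, 3], labD [1, 3, 4, 5, 4, 3]]

/-- the relators other than the one of the cube of the Coxeter element -/
def baseRels : List (List (Fin 7)) :=
  rK6 ++ [[6, 6]] ++ swapped.map (fun p => [6] ++ p.1 ++ [6] ++ p.2.reverse) ++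
    [([6] ++ oddW) ++ ([6] ++ oddW) ++ ([6] ++ oddW),
     labA [1, 3] ++ [2, 4] ++ (labA [1, 3] ++ [2, 4])]

/-- all relators when the cube is `c` -/
def allRels (c : List (Fin 7)) : List (List (Fin 7)) :=
  baseRels ++ [coxW ++ coxW ++ coxW ++ c.reverse]

/-- the checks of a collapsing certificate -/
noncomputable def collapseOK (C : Cert) (c : List (Fin 7)) : Bool :=
  okRels C ([0, 1, 2, 3, 4, 5, 6] : List (Fin 7)) (allRels c) 0 &&
    okSubs C ([0, 1, 2, 3, 4, 5, 6] : List (Fin 7)) [[0], [1], [2], [3], [4], [5]] 0 &&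
    decide (6 < C.g ∧ C.walk 524288 [6] 0 = some 0)

theorem mem_of_cert {G : Type u} [Group G] {f : Fin 7 → G} (hf : ∀ x, f x * f x = 1)
    {c : List (Fin 7)} (hk : ∀ w ∈ allRels c, (w.map f).prod = 1) {C : Cert}
    {js : List Cert.Just} (V : Cert.Valid C js) (hb : collapseOK C c = true) :
    f 6 ∈ wordsGroup [[0], [1], [2], [3], [4], [5]] f := by
  simp only [collapseOK, Bool.and_eq_true, decide_eq_true_eq] at hb
  obtain ⟨⟨hr, hs⟩, hg, hw⟩ := hb
  have := word_mem V hf hk hr hs [6] (fun x hx => by rw [List.mem_singleton] at hx; omega) _ hw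
  simpa using this

theorem one_ok : collapseOK One.cert (candW.getD 0 []) = true := by decide +kernel
theorem x_ok : collapseOK X.cert (candW.getD 1 []) = true := by decide +kernel
theorem dts_ok : collapseOK Dts.cert (candW.getD 2 []) = true := by decide +kernel
theorem dzo_ok : collapseOK Dzo.cert (candW.getD 3 []) = true := by decide +kernel

/-- each candidate forces the last letter into the subgroup of the first six -/
theorem collapse {G : Type u} [Group G] {f : Fin 7 → G} (hf : ∀ x, f x * f x = 1)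
    {c : List (Fin 7)} (hc : c ∈ candW) (hk : ∀ w ∈ allRels c, (w.map f).prod = 1) :
    f 6 ∈ wordsGroup [[0], [1], [2], [3], [4], [5]] f := by
  obtain ⟨i, hi, rfl⟩ := List.getElem_of_mem hc
  rw [← List.getD_eq_getElem _ ([] : List (Fin 7)) hi] at hk
  have h4 : i < 4 := hi
  interval_cases i
  · exact mem_of_cert hf hk One.valid one_ok
  · exact mem_of_cert hf hk X.valid x_ok
  · exact mem_of_cert hf hk Dts.valid dts_ok
  · exact mem_of_cert hf hk Dzo.valid dzo_ok

/-- the relators of the Weyl group of type `D₄` -/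
def dRels : List (List (Fin 4)) :=
  [[0, 0], [1, 1], [2, 2], [3, 3], [0, 1, 0, 1, 0, 1], [1, 2, 1, 2, 1, 2], [1, 3, 1, 3, 1, 3],
   [0, 2, 0, 2], [0, 3, 0, 3], [2, 3, 2, 3]]

/-- the cube of the Coxeter element -/
def dCox : List ℕ := [0, 1, 2, 3, 0, 1, 2, 3, 0, 1, 2, 3]

theorem dcheck : (okRels Wd.cert [0, 1, 2, 3] dRels 0 &&
    okSubs Wd.cert ([0, 1, 2, 3] : List (Fin 4)) [] 0 &&
    decide (Wd.cert.walk 524288 (dCox ++ dCox) 0 = some 0) &&
    (List.range 4).all fun x =>
      decide (Wd.cert.walk 524288 (dCox ++ [x] ++ dCox ++ [x]) 0 = some 0)) = true := by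
  decide +kernel

theorem wd_g : Wd.cert.g = 4 := by decide +kernel

/-- in the Weyl group of type `D₄` the cube of the Coxeter element is central of square one -/
theorem cox_central {G : Type u} [Group G] (f : Fin 4 → G)
    (hk : ∀ w ∈ dRels, (w.map f).prod = 1) :
    (f 0 * f 1 * f 2 * f 3) ^ 3 * (f 0 * f 1 * f 2 * f 3) ^ 3 = 1 ∧
      ∀ x, Commute ((f 0 * f 1 * f 2 * f 3) ^ 3) (f x) := by
  have hsq : ∀ x, f x * f x = 1 := fun x => by
    have h := hk [x, x] (by revert x; decide)
    simpa using h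
  have h := dcheck
  simp only [Bool.and_eq_true, decide_eq_true_eq, List.all_eq_true, List.mem_range] at h
  obtain ⟨⟨⟨hr, hs⟩, h2⟩, hc⟩ := h
  have key : ∀ w : List ℕ, (∀ x ∈ w, x < 4) → Wd.cert.walk 524288 w 0 = some 0 →
      ((w.map fun x => ([0, 1, 2, 3] : List (Fin 4)).getD x 0).map f).prod = 1 := by
    intro w hw hwalk
    have := word_mem Wd.valid hsq hk hr hs w (fun x hx => wd_g ▸ hw x hx) _ hwalk
    simpa [wordsGroup] using this
  set k := (f 0 * f 1 * f 2 * f 3) ^ 3 with hkdef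
  have ev : ((dCox.map fun x => ([0, 1, 2, 3] : List (Fin 4)).getD x 0).map f).prod = k := by
    simp [dCox, hkdef, pow_succ, mul_assoc]
  have hkk : k * k = 1 := by
    have := key (dCox ++ dCox) (by decide) h2
    rwa [List.map_append, List.map_append, List.prod_append, ev] at this
  refine ⟨hkk, fun x => ?_⟩
  have hx := key (dCox ++ [x.1] ++ dCox ++ [x.1]) (by revert x; decide) (hc x.1 x.2)
  rw [List.map_append, List.map_append, List.prod_append, List.map_append, List.map_append,
    List.prod_append, List.map_append, List.map_append, List.prod_append, ev] at hx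
  have hx' : k * f x * (k * f x) = 1 := by
    have e : ∀ y : Fin 4, ([0, 1, 2, 3] : List (Fin 4)).getD y.1 0 = y := by decide
    simpa only [List.map_cons, List.map_nil, List.prod_cons, List.prod_nil, mul_one, e,
      mul_assoc] using hx
  calc k * f x = (k * f x)⁻¹ := eq_inv_of_mul_eq_one_left hx'
    _ = (f x)⁻¹ * k⁻¹ := mul_inv_rev _ _
    _ = f x * k := by rw [inv_eq_of_mul_eq_one_right (hsq x), inv_eq_of_mul_eq_one_right hkk]

end CfsgLib.ANineThree.NoSeven
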