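import Cfsg.Agent.Lib.PresCert.Check

/-!
Coset table certificate (generated data).
-/

namespace CfsgLib.ANineThree.NoSeven.X

open CfsgLib.PresCert

noncomputable def tab : BTree := (.leaf 0xbac00328000000000a800030000000000880002800000000068000200000000004800018000000000280001000000000008000080000)

noncomputable def par : BTree := (.leaf 0x30000b0000000000500012000000000050001100000000003000070000000000300006000000000050000f000000000010000c000000000050000b000000000040000b000000000000000b000000000060000200000000005000070000000000500006000000000050000500000000004000040000000000400003000000000040000200000000000000030000000000200002000000000030000100000000006000000000000000000000)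

noncomputable def fact : BTree := (.node (.node (.leaf 0x26000082000090002500009500006000240000840000800023000083000080002200008500005000210000600000700020000072000070001f000061000070001e000074000040001d000052000060001c000064000030001b000053000050001a0000510000500019000054000020001800004500004000170000430000400016000042000040001500003100004000140000400000300013000035000030001200003300003000110000320000200010000025000020000f000020000020000e000021000020000d000023000010000c000015000010000b000014000010000a00001100001000090000120000100008000010000010000700001600000) (.leaf 0x640000060000000063000017000000006200001700000000610001170000100060000037000010005f000117000030005e000137000030005d000037000010005c000027000010005b000137000030005a00009700003000590000270000100058000087000020005700009700003000560001070000c0005500008700002000540001070000c000530000e70000b000520000e70000b0005100011600011000500000b30000e0004f0001570000e0004e0001570000e0004d000154000150004c0001530000b0004b000130000140004a0000a300014000490001310001400048000145000120004700009300013))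 (.node (.leaf 0x46000132000130004500013500011000440001100001200043000111000120004200012300007000410001120001100040000113000060003f000096000100003e0000e0000100003d0001050000f0003c0000460000f0003b0000f10000c0003a0000860000e000390000e40000e000380000e20000e000370000e10000e000360000e50000b000350000d30000d000340000d50000d000330000560000d000320000d10000d000310000d40000b000300000360000c0002f0000c00000b0002e0000b10000b0002d0000b20000b0002c0000b6000020002b0000900000a0002a0000a20000a000290000910000a000280000a5000070002700009400009) (.leaf 0x0)))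

/-- the certificate -/
noncomputable def cert : Cert where
  n := 1
  v := 21
  g := 7
  inv := [0, 1, 2, 3, 4, 5, 6]
  rels := [[0, 1, 0, 1, 0, 1], [1, 0, 1, 1, 0, 1], [1, 2, 1, 2, 1, 2], [1, 3, 1, 3], [1, 4, 1, 4], [1, 5, 1, 5], [2, 0, 1, 2, 0, 1], [2, 3, 2, 3, 2, 3], [2, 4, 2, 4], [2, 5, 2, 5], [3, 0, 1, 3, 0, 1], [3, 4, 3, 4, 3, 4], [3, 5, 3, 5], [4, 0, 1, 4, 0, 1], [4, 5, 4, 5, 4, 5], [5, 0, 1, 5, 0, 1], [6, 0, 6, 2], [6, 1, 6, 1], [6, 4, 6, 4, 1], [6, 5, 6, 4, 5, 4, 1], [6, 0, 1, 6, 1, 2], [6, 3, 2, 1, 4, 3, 2, 5, 4, 3, 6, 3, 2, 1, 4, 3, 2, 5, 4, 3, 6, 3, 2, 1, 4, 3, 2, 5, 4, 3], [1, 2, 3, 6, 1, 3, 6, 3, 2, 1, 2, 4, 1, 2, 3, 6, 1, 3, 6, 3, 2, 1, 2, 4], [1, 2, 3, 6, 1, 3, 4, 3, 6, 3, 2, 1, 0, 2, 4, 3, 2, 0, 4, 5, 0, 3, 2, 0, 3, 1, 2, 3, 6, 1, 3, 4, 3, 6, 3, 2, 1, 0, 2, 4, 3, 2, 0, 4, 5, 0, 3, 2, 0, 3, 1, 2, 3, 6, 1, 3, 4, 3, 6, 3, 2, 1, 0, 2, 4, 3, 2, 0, 4, 5, 0, 3, 2, 0, 3, 2]]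
  subs := [[0], [1], [2], [3], [4], [5]]
  tab := tab
  par := par
  fact := fact
  nfact := 94

/-- justifications -/
noncomputable def just0 : List Cert.Just :=
  [.define,
   .loop (some (16, 1)) [.bwd 0, .edge 2, .fwd 0],
   .loop (some (16, 3)) [.bwd 0, .edge 0, .fwd 0],
   .loop (some (17, 1)) [.bwd 0, .edge 1, .fwd 0],
   .loop (some (18, 1)) [.bwd 0, .edge 4, .edge 1, .fwd 0],
   .loop (some (19, 1)) [.bwd 0, .edge 4, .edge 5, .edge 4, .edge 1, .fwd 0],
   .define,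
   .loop (some (3, 2)) [.bwd 6, .fwd 3, .fwd 6],
   .loop (some (10, 1)) [.fwd 7, .bwd 6, .fwd 1, .fwd 3, .fwd 6],
   .loop (some (12, 1)) [.bwd 6, .fwd 5, .fwd 6],
   .define,
   .loop (some (7, 1)) [.bwd 10, .bwd 6, .fwd 2, .fwd 6, .fwd 10],
   .loop (some (9, 1)) [.bwd 10, .fwd 9, .fwd 10],
   .define,
   .loop (some (6, 2)) [.bwd 10, .fwd 8, .fwd 7, .fwd 10, .fwd 13],
   .loop (some (2, 5)) [.fwd 14, .bwd 10, .fwd 7, .fwd 10, .bwd 14],
   .loop (some (3, 3)) [.fwd 14, .fwd 11, .bwd 14],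
   .loop (some (5, 3)) [.fwd 14, .fwd 12, .bwd 14],
   .define,
   .loop (some (4, 2)) [.bwd 18, .fwd 7, .fwd 18],
   .loop (some (11, 2)) [.bwd 18, .bwd 6, .fwd 4, .fwd 6, .fwd 18],
   .define,
   .loop (some (8, 2)) [.bwd 18, .fwd 10, .fwd 21],
   .define,
   .loop (some (4, 2)) [.bwd 21, .bwd 14, .fwd 23],
   .loop (some (8, 2)) [.bwd 23, .fwd 15, .fwd 23],
   .loop (some (13, 1)) [.bwd 24, .bwd 23, .bwd 13, .bwd 14, .fwd 23],
   .define,
   .loop (some (12, 2)) [.bwd 27, .fwd 20, .fwd 27],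
   .loop (some (14, 2)) [.bwd 27, .bwd 18, .fwd 9, .fwd 18, .fwd 27],
   .define,
   .loop (some (9, 2)) [.bwd 27, .bwd 22, .fwd 30],
   .loop (some (14, 2)) [.bwd 30, .bwd 21, .fwd 12, .fwd 21, .fwd 30],
   .define,
   .loop (some (5, 2)) [.bwd 30, .bwd 24, .fwd 33],
   .loop (some (9, 2)) [.bwd 33, .fwd 25, .fwd 33],
   .loop (some (15, 1)) [.bwd 34, .bwd 33, .fwd 26, .bwd 24, .fwd 33],
   .define,
   .loop (some (16, 3)) [.bwd 37, .fwd 8, .fwd 37],
   .loop (some (17, 1)) [.bwd 37, .fwd 7, .fwd 37],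
   .define,
   .loop (some (16, 2)) [.bwd 10, .fwd 37, .fwd 40],
   .define,
   .loop (some (4, 2)) [.bwd 42, .fwd 39, .fwd 42],
   .loop (some (18, 2)) [.bwd 18, .fwd 7, .fwd 37, .fwd 42],
   .loop (some (19, 4)) [.bwd 42, .fwd 39, .bwd 37, .fwd 9, .fwd 37, .fwd 42],
   .loop (some (22, 5)) [.fwd 44, .fwd 20, .bwd 22, .bwd 24, .fwd 25, .bwd 23, .fwd 14, .bwd 10, .bwd 6, .bwd 0, .edge 1, .edge 3, .fwd 0, .fwd 6, .fwd 10, .bwd 14, .fwd 15, .fwd 23, .fwd 24, .fwd 22, .fwd 20, .bwd 44, .fwd 43],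
   .define,
   .loop (some (5, 2)) [.bwd 47, .fwd 39, .fwd 47],
   .loop (some (9, 2)) [.bwd 47, .fwd 38, .fwd 47],
   .loop (some (14, 2)) [.bwd 47, .fwd 42, .fwd 45, .bwd 42, .fwd 47],
   .loop (some (19, 2)) [.fwd 29, .bwd 27, .bwd 18, .fwd 7, .fwd 37, .fwd 47],
   .define,
   .loop (some (17, 2)) [.fwd 14, .bwd 41, .fwd 52],
   .define,
   .loop (some (15, 1)) [.fwd 48, .bwd 47, .fwd 40, .fwd 52, .fwd 54],
   .loop (some (19, 2)) [.fwd 32, .bwd 30, .bwd 21, .bwd 14, .bwd 53, .fwd 54],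
   .define,
   .loop (some (7, 2)) [.bwd 57, .fwd 22, .fwd 20, .bwd 22, .fwd 57],
   .define,
   .loop (some (3, 2)) [.bwd 57, .bwd 24, .fwd 59],
   .loop (some (10, 1)) [.bwd 60, .bwd 59, .fwd 26, .bwd 24, .fwd 59],
   .define,
   .loop (some (9, 2)) [.bwd 62, .fwd 58, .fwd 62],
   .loop (some (12, 2)) [.bwd 30, .fwd 57, .fwd 62],
   .define,
   .loop (some (5, 2)) [.bwd 62, .bwd 60, .fwd 65],
   .loop (some (12, 2)) [.bwd 33, .fwd 59, .fwd 65],
   .loop (some (15, 1)) [.bwd 66, .bwd 65, .fwd 61, .bwd 60, .fwd 65],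
   .define,
   .loop (some (11, 1)) [.bwd 69, .fwd 42, .fwd 46, .bwd 42, .fwd 69],
   .loop (some (23, 5)) [.bwd 69, .fwd 42, .fwd 46, .fwd 44, .fwd 20, .bwd 22, .bwd 24, .fwd 26, .fwd 22, .bwd 18, .bwd 6, .fwd 2, .fwd 1, .fwd 4, .fwd 5, .fwd 1, .fwd 6, .fwd 10, .fwd 13, .fwd 16, .fwd 14, .bwd 10, .bwd 6, .bwd 0, .edge 1, .edge 3, .edge 4, .edge 3, .fwd 0, .fwd 6, .fwd 10, .bwd 14, .bwd 13, .bwd 10, .fwd 18, .fwd 20, .bwd 22, .bwd 26, .bwd 23, .fwd 17, .bwd 13, .fwd 11, .bwd 10, .fwd 8, .bwd 6, .fwd 3, .fwd 2, .fwd 6, .fwd 37, .fwd 39, .fwd 69, .fwd 70, .bwd 69, .bwd 37, .bwd 6, .fwd 2, .fwd 3, .fwd 1, .fwd 2, .fwd 4, .fwd 6, .fwd 10, .fwd 13, .fwd 23, .fwd 33, .fwd 36, .bwd 64, .fwd 63, .bwd 68, .fwd 67, .fwd 35, .fwd 34, .fwd 31, .fwd 28, .bwd 51, .fwd 48],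
   .loop none [.bwd 71],
   .loop none [.fwd 69, .bwd 72],
   .loop (some (21, 20)) [.bwd 57, .fwd 22, .fwd 19, .bwd 18, .bwd 6, .fwd 2, .fwd 5, .fwd 4, .fwd 6, .fwd 37, .bwd 73, .fwd 49, .fwd 48, .fwd 50, .fwd 73, .fwd 38, .fwd 47, .fwd 50, .fwd 73, .bwd 37, .bwd 6, .fwd 2, .fwd 3, .fwd 4, .fwd 6, .fwd 10, .fwd 12, .fwd 21, .fwd 57],
   .loop (some (7, 1)) [.fwd 73, .fwd 38, .bwd 73, .fwd 49, .fwd 73, .fwd 38],
   .loop none [.bwd 75],
   .loop none [.fwd 55, .bwd 76, .fwd 40],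
   .loop none [.bwd 51, .bwd 76, .bwd 37],
   .loop none [.bwd 77],
   .loop none [.bwd 56, .bwd 79, .fwd 41],
   .loop none [.bwd 78],
   .loop none [.fwd 81, .bwd 28, .bwd 81, .bwd 6],
   .loop none [.bwd 80],
   .loop none [.fwd 64, .bwd 83, .fwd 11],
   .loop none [.bwd 82],
   .loop none [.bwd 10, .bwd 85, .fwd 2],
   .loop none [.bwd 84],
   .loop none [.fwd 62, .bwd 87, .fwd 12],
   .loop none [.bwd 86],
   .loop none [.bwd 88, .bwd 89],
   .loop none [.fwd 90, .bwd 74, .bwd 90, .bwd 0],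
   .loop none [.bwd 91],
   .loop none [.fwd 0, .bwd 92]]

/-- justifications -/
noncomputable def justs : List Cert.Just := just0

end CfsgLib.ANineThree.NoSeven.X
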